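import Cfsg.Agent.Lib.Helper7.AutPO.FieldInj
import Cfsg.Agent.Lib.Helper5.OrthAut.Classes
import Cfsg.Agent.H9.OrthK
import Mathlib

/-!
# The odd-dimensional form `quadFormOdd`: field automorphisms are not inner-diagonal;
similarities are scalars times isometries (helper7)
-/

set_option autoImplicit false
set_option linter.unusedSectionVars false

namespace Cfsg.Agent.Lib.H7AutPO

open Matrix Cfsg Cfsg.Agent.Lib.H7AutPSp Cfsg.Agent.Lib.Helper5.OrthAut Cfsg.Agent.H9.Orth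
  Cfsg.Agent.Lib.Helper5.OrthSN Cfsg.Agent.Lib.Helper5.OrthCls

universe u

variable {F : Type u} [Field F]

abbrev IO (m : ℕ) := Unit ⊕ (Fin m ⊕ Fin m)

theorem card_IO (m : ℕ) : Fintype.card (IO m) = 2 * m + 1 := by
  simp [IO]
  ring

/-- the first two "x" basis vectors and the second "y" basis vector -/
def uO (m : ℕ) (hm : 2 ≤ m) : IO m → F := Pi.single (Sum.inr (Sum.inl ⟨0, by omega⟩)) 1
def wO (m : ℕ) (hm : 2 ≤ m) : IO m → F := Pi.single (Sum.inr (Sum.inl ⟨1, by omega⟩)) 1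
def xO (m : ℕ) (hm : 2 ≤ m) : IO m → F := Pi.single (Sum.inr (Sum.inr ⟨1, by omega⟩)) 1

theorem vmap_uO (m : ℕ) (hm : 2 ≤ m) (σ : RingAut F) : vmap σ (uO (F := F) m hm) = uO m hm := by
  funext i
  unfold vmap uO
  by_cases h : i = Sum.inr (Sum.inl ⟨0, by omega⟩)
  · rw [h, Pi.single_eq_same, map_one]
  · rw [Pi.single_eq_of_ne h, map_zero]

theorem vmap_wO (m : ℕ) (hm : 2 ≤ m) (σ : RingAut F) : vmap σ (wO (F := F) m hm) = wO m hm := by
  funext i
  unfold vmap wO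
  by_cases h : i = Sum.inr (Sum.inl ⟨1, by omega⟩)
  · rw [h, Pi.single_eq_same, map_one]
  · rw [Pi.single_eq_of_ne h, map_zero]

theorem Q_uO (m : ℕ) (hm : 2 ≤ m) : Cfsg.quadFormOdd m F (uO m hm) = 0 := by
  unfold Cfsg.quadFormOdd uO
  simp

theorem Q_wO (m : ℕ) (hm : 2 ≤ m) : Cfsg.quadFormOdd m F (wO m hm) = 0 := by
  unfold Cfsg.quadFormOdd wO
  simp

theorem pol_uO_wO (m : ℕ) (hm : 2 ≤ m) :
    pol (Cfsg.quadFormOdd m F) (uO m hm) (wO m hm) = 0 := by
  unfold pol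
  rw [polar_quadFormOdd]
  unfold uO wO
  simp

theorem pol_xO_wO (m : ℕ) (hm : 2 ≤ m) :
    pol (Cfsg.quadFormOdd m F) (xO m hm) (wO m hm) = 1 := by
  unfold pol
  rw [polar_quadFormOdd]
  unfold xO wO
  simp [Pi.single_apply]

theorem pol_xO_uO (m : ℕ) (hm : 2 ≤ m) :
    pol (Cfsg.quadFormOdd m F) (xO m hm) (uO m hm) = 0 := by
  unfold pol
  rw [polar_quadFormOdd]
  unfold xO uO
  simp [Pi.single_apply]

theorem uO_ne_zero (m : ℕ) (hm : 2 ≤ m) : uO (F := F) m hm ≠ 0 := by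
  intro h
  have := congrFun h (Sum.inr (Sum.inl ⟨0, by omega⟩))
  unfold uO at this
  rw [Pi.single_eq_same] at this
  exact one_ne_zero this

section main

variable [Fintype F]

/-- **standard field automorphisms of `Ω_{2m+1}(q)` are not inner-diagonal** -/
theorem eq_one_of_PhO_mem_range_odd (h2 : (2 : F) ≠ 0) {m : ℕ} (hm : 3 ≤ m) (σ : RingAut F)
    (h : PhO (fieldCompat_odd (F := F) m) σ ∈ (DhO (Cfsg.quadFormOdd m F)).range) : σ = 1 := by
  obtain ⟨g, hg⟩ := h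
  have hQ := isNondeg_quadFormOdd (F := F) m h2
  have hm2 : 2 ≤ m := by omega
  refine eq_one_of_PhO_eq_DhO hQ (fieldCompat_odd m) (by rw [card_IO]; omega) h2
    (uO m hm2) (wO m hm2) (Q_uO m hm2) (Q_wO m hm2) (pol_uO_wO m hm2)
    (fun σ => vmap_uO m hm2 σ) (fun σ => vmap_wO m hm2 σ) (xO m hm2) ?_ σ g hg.symm
  rw [act_sg hQ _ _ (Q_uO m hm2) (pol_uO_wO m hm2), pol_xO_wO, pol_xO_uO, Q_wO, zero_smul,
    mul_zero, sub_zero, sub_zero, one_smul]
  intro h
  exact uO_ne_zero m hm2 (add_eq_left.1 h)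

omit [Fintype F] in
/-- in odd dimension every similarity is a scalar times an isometry -/
theorem sim_eq_scalar_mul_iso_odd (h2 : (2 : F) ≠ 0) (m : ℕ)
    (g : ↥(Cfsg.Geo.quadSimilarityGroup (F := F) (Cfsg.quadFormOdd m F))) :
    ∃ (l : F) (hl0 : l ≠ 0) (g' : GL (IO m) F), g' ∈ Cfsg.isometryGroup F (Cfsg.quadFormOdd m F) ∧
      (g : GL (IO m) F) = scalarGL l hl0 * g' := by
  have hQ := isNondeg_quadFormOdd (F := F) m h2
  have hd := det_sq hQ g
  rw [card_IO] at hd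
  have hμ : (mu g : F) ≠ 0 := Units.ne_zero _
  set l := ((g : GL (IO m) F) : Matrix (IO m) (IO m) F).det / (mu g : F) ^ m with hl
  have hll : (mu g : F) = l * l := by
    rw [hl]
    field_simp
    rw [hd]
    ring
  obtain ⟨hl0, g', hg', e⟩ := exists_scalar_mul_iso hQ g l hll
  exact ⟨l, hl0, g', hg', e⟩

end main

end Cfsg.Agent.Lib.H7AutPO
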