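import Cfsg.Agent.Lib.Helper7.AutPO.Gram
import Cfsg.Agent.Lib.Helper7.AutPO.OddSpec
import Cfsg.Agent.Lib.Helper5.Orth.TransMaxTS
import Cfsg.Agent.Lib.Helper5.Orth.OddForm
import Cfsg.Agent.H9.QuadFin
import Mathlib

/-!
# Odd-dimensional quadratic forms over a finite field are similar to the standard form (helper7)
-/

set_option autoImplicit false
set_option linter.unusedSectionVars false

namespace Cfsg.Agent.Lib.H7AutPO

open Matrix Cfsg Cfsg.Agent.Lib.H7AutPSp Cfsg.Agent.H9.Orth

universe u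

variable {F : Type u} [Field F]

theorem quadFormOdd_single_inl (m : ℕ) :
    Cfsg.quadFormOdd m F (Pi.single (Sum.inl ()) 1) = 1 := by
  unfold Cfsg.quadFormOdd
  simp

theorem quadFormOdd_single_inr (m : ℕ) (k : Fin m ⊕ Fin m) :
    Cfsg.quadFormOdd m F (Pi.single (Sum.inr k) 1) = 0 := by
  unfold Cfsg.quadFormOdd
  rcases k with k | k <;> simp [Pi.single_apply]

/-- the polar form of the standard form on the standard basis -/
theorem polar_std_single (m : ℕ) (i j : IO m) :
    QuadraticMap.polar (Cfsg.quadFormOdd m F) (Pi.single i 1) (Pi.single j 1) =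
      match i, j with
      | Sum.inl _, Sum.inl _ => 2
      | Sum.inr (Sum.inl k), Sum.inr (Sum.inr l) => if k = l then 1 else 0
      | Sum.inr (Sum.inr k), Sum.inr (Sum.inl l) => if k = l then 1 else 0
      | _, _ => 0 := by
  rw [Cfsg.Agent.Lib.Helper5.Orth.polar_quadFormOdd]
  rcases i with i | i | i <;> rcases j with j | j | j <;>
    simp [Pi.single_apply, Finset.sum_ite_eq, eq_comm]

/-- **every nondegenerate quadratic form in dimension `2m+1` over a finite field is similar to
the standard one** -/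
theorem exists_sim_std_odd [Fintype F] (m : ℕ) (q : QuadraticForm F (IO m → F))
    (hq : (QuadraticMap.polarBilin q).Nondegenerate) :
    ∃ (T : (IO m → F) ≃ₗ[F] (IO m → F)) (a : F), a ≠ 0 ∧
      ∀ v, q (T v) = a * Cfsg.quadFormOdd m F v := by
  have hV : Module.finrank F (IO m → F) = 2 * m + 1 := by
    rw [Module.finrank_fintype_fun_eq_card, card_IO]
  obtain ⟨b, hb0, hhyp, hort⟩ := Cfsg.Agent.H9.QuadFin.odd_basis q hq m hV
  have hpol : QuadraticMap.polar q (b (Sum.inl ())) (b (Sum.inl ())) =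
      2 * q (b (Sum.inl ())) := by
    rw [QuadraticMap.polar_self, two_smul, two_mul]
  obtain ⟨a, ha⟩ : ∃ a, a = q (b (Sum.inl ())) := ⟨_, rfl⟩
  rw [← ha] at hpol
  have ha0 : a ≠ 0 := by
    rintro rfl
    exact hb0 (by rw [hpol, mul_zero])
  have h2 : (2 : F) ≠ 0 := by
    intro h
    exact hb0 (by rw [hpol, h, zero_mul])
  have hQstd := isNondeg_quadFormOdd (F := F) (m := m) h2
  let Qstd : QuadraticForm F (IO m → F) := Cfsg.Agent.Lib.Helper5.OrthSN.qf hQstd
  let v' : IO m → (IO m → F) :=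
    Sum.elim (fun _ => b (Sum.inl ()))
      (Sum.elim (fun i => b (Sum.inr (Sum.inl i))) (fun i => a • b (Sum.inr (Sum.inr i))))
  obtain ⟨hh1, hh2, hh3⟩ := hhyp
  have h1 : ∀ i, q (v' i) = a * Qstd (Pi.basisFun F (IO m) i) := by
    intro i
    rw [Pi.basisFun_apply]
    show q (v' i) = a * Cfsg.quadFormOdd m F (Pi.single i 1)
    rcases i with i | i | i
    · rw [quadFormOdd_single_inl, mul_one, ha]
      rfl
    · rw [quadFormOdd_single_inr, mul_zero]
      exact (hh1 i).1
    · rw [quadFormOdd_single_inr, mul_zero]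
      show q (a • b (Sum.inr (Sum.inr i))) = 0
      rw [QuadraticMap.map_smul, (hh1 i).2, smul_zero]
  have h2' : ∀ i j, QuadraticMap.polar q (v' i) (v' j) =
      a * QuadraticMap.polar Qstd (Pi.basisFun F (IO m) i) (Pi.basisFun F (IO m) j) := by
    intro i j
    rw [Pi.basisFun_apply, Pi.basisFun_apply]
    show QuadraticMap.polar q (v' i) (v' j) =
      a * QuadraticMap.polar (Cfsg.quadFormOdd m F) (Pi.single i 1) (Pi.single j 1)
    rw [polar_std_single]
    rcases i with i | i | i <;> rcases j with j | j | j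
    · show QuadraticMap.polar q (b (Sum.inl ())) (b (Sum.inl ())) = a * 2
      rw [hpol, mul_comm]
    · show QuadraticMap.polar q (b (Sum.inl ())) (b (Sum.inr (Sum.inl j))) = a * 0
      rw [(hort j).1, mul_zero]
    · show QuadraticMap.polar q (b (Sum.inl ())) (a • b (Sum.inr (Sum.inr j))) = a * 0
      rw [QuadraticMap.polar_smul_right, (hort j).2, smul_zero, mul_zero]
    · show QuadraticMap.polar q (b (Sum.inr (Sum.inl i))) (b (Sum.inl ())) = a * 0
      rw [QuadraticMap.polar_comm, (hort i).1, mul_zero]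
    · show QuadraticMap.polar q (b (Sum.inr (Sum.inl i))) (b (Sum.inr (Sum.inl j))) = a * 0
      rw [(hh3 i j).1, mul_zero]
    · show QuadraticMap.polar q (b (Sum.inr (Sum.inl i))) (a • b (Sum.inr (Sum.inr j))) =
        a * (if i = j then 1 else 0)
      rw [QuadraticMap.polar_smul_right, hh2, smul_eq_mul]
    · show QuadraticMap.polar q (a • b (Sum.inr (Sum.inr i))) (b (Sum.inl ())) = a * 0
      rw [QuadraticMap.polar_comm, QuadraticMap.polar_smul_right, (hort i).2, smul_zero,
        mul_zero]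
    · show QuadraticMap.polar q (a • b (Sum.inr (Sum.inr i))) (b (Sum.inr (Sum.inl j))) =
        a * (if i = j then 1 else 0)
      rw [QuadraticMap.polar_comm, QuadraticMap.polar_smul_right, hh2, smul_eq_mul]
      congr 1
      by_cases h : i = j
      · rw [if_pos h, if_pos h.symm]
      · rw [if_neg h, if_neg (Ne.symm h)]
    · show QuadraticMap.polar q (a • b (Sum.inr (Sum.inr i))) (a • b (Sum.inr (Sum.inr j))) =
        a * 0
      rw [QuadraticMap.polar_smul_right, QuadraticMap.polar_smul_left, (hh3 i j).2, smul_zero,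
        smul_zero, mul_zero]
  have key := Cfsg.Agent.H9.QuadFin.scaling_of_basis Qstd q (Pi.basisFun F (IO m)) v' a h1 h2'
  have hinj := Cfsg.Agent.H9.QuadFin.injective_of_scaling Qstd q
    (Cfsg.Agent.Lib.Helper5.OrthSN.qf_nondeg hQstd) ((Pi.basisFun F (IO m)).constr F v') ha0 key
  exact ⟨LinearEquiv.ofInjectiveEndo _ hinj, a, ha0, fun v => key v⟩

/-! ### matrix form -/

/-- the quadratic form `v ↦ vᵀ K v` -/
noncomputable def symQ {ι : Type} [Fintype ι] [DecidableEq ι] (K : Matrix ι ι F) :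
    QuadraticForm F (ι → F) := Matrix.toQuadraticForm' K

theorem symQ_apply {ι : Type} [Fintype ι] [DecidableEq ι] (K : Matrix ι ι F) (v : ι → F) :
    symQ K v = v ⬝ᵥ (K *ᵥ v) := by
  unfold symQ Matrix.toQuadraticForm'
  rw [LinearMap.BilinMap.toQuadraticMap_apply, Matrix.toLinearMap₂'_apply']

theorem polar_symQ {ι : Type} [Fintype ι] [DecidableEq ι] (K : Matrix ι ι F) (hK : Kᵀ = K)
    (u v : ι → F) : QuadraticMap.polar (symQ K) u v = 2 * (u ⬝ᵥ (K *ᵥ v)) := by
  unfold symQ Matrix.toQuadraticForm'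
  rw [LinearMap.BilinMap.polar_toQuadraticMap, Matrix.toLinearMap₂'_apply',
    Matrix.toLinearMap₂'_apply', two_mul]
  congr 1
  rw [Matrix.dotProduct_mulVec, ← Matrix.mulVec_transpose, hK, dotProduct_comm]

theorem symQ_nondeg {ι : Type} [Fintype ι] [DecidableEq ι] (h2 : (2 : F) ≠ 0)
    (K : Matrix ι ι F) (hK : Kᵀ = K) (hdet : K.det ≠ 0) :
    (QuadraticMap.polarBilin (symQ K)).Nondegenerate := by
  rw [Cfsg.Agent.H9.QuadFin.nondeg_iff]
  intro x hx
  have h1 : ∀ y, y ⬝ᵥ (K *ᵥ x) = 0 := by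
    intro y
    have := hx y
    rw [QuadraticMap.polar_comm, polar_symQ K hK] at this
    exact (mul_eq_zero.1 this).resolve_left h2
  have h3 : K *ᵥ x = 0 := by
    funext i
    have := h1 (Pi.single i 1)
    rw [single_one_dotProduct] at this
    exact this
  by_contra hx0
  exact hdet (Matrix.exists_mulVec_eq_zero_iff.1 ⟨x, hx0, h3⟩)

/-- **a nondegenerate symmetric matrix of odd size over a finite field of odd order is congruent
to a multiple of the Gram matrix of the standard form** -/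
theorem sym_congr_std [Fintype F] (m : ℕ) (h2 : (2 : F) ≠ 0) (K : Matrix (IO m) (IO m) F)
    (hK : Kᵀ = K) (hdet : K.det ≠ 0) :
    ∃ T : Matrix (IO m) (IO m) F, IsUnit T ∧ ∃ a : F, a ≠ 0 ∧
      Tᵀ * K * T = a • gram (Cfsg.quadFormOdd m F) := by
  obtain ⟨T, a, ha0, hT⟩ := exists_sim_std_odd m (symQ K) (symQ_nondeg h2 K hK hdet)
  obtain ⟨g, hg⟩ : ∃ g : GL (IO m) F, g = Cfsg.Agent.Lib.Helper5.Orth.ofEquiv T := ⟨_, rfl⟩
  have hgT : ∀ v, g.val *ᵥ v = T v := by
    intro v
    rw [hg]
    exact Cfsg.Agent.Lib.Helper5.Orth.ofEquiv_mulVec T v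
  refine ⟨g.val, g.isUnit, a / 2, div_ne_zero ha0 h2, ?_⟩
  ext i j
  have h3 : (g.valᵀ * K * g.val) i j =
      (g.val *ᵥ Pi.single i 1) ⬝ᵥ (K *ᵥ (g.val *ᵥ Pi.single j 1)) := by
    rw [Matrix.mul_assoc, Matrix.mul_apply]
    unfold dotProduct
    apply Finset.sum_congr rfl
    intro l _
    rw [Matrix.transpose_apply, Matrix.mulVec_single_one, Matrix.mulVec_mulVec,
      Matrix.mulVec_single_one]
    rfl
  have h4 : QuadraticMap.polar (symQ K) (g.val *ᵥ Pi.single i 1) (g.val *ᵥ Pi.single j 1) =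
      a * QuadraticMap.polar (Cfsg.quadFormOdd m F) (Pi.single i 1) (Pi.single j 1) := by
    unfold QuadraticMap.polar
    rw [← Matrix.mulVec_add, hgT, hgT, hgT, hT, hT, hT]
    ring
  rw [polar_symQ K hK, ← h3] at h4
  rw [Matrix.smul_apply, smul_eq_mul, gram_apply]
  field_simp
  linear_combination h4

end Cfsg.Agent.Lib.H7AutPO
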