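import Cfsg.Agent.Lib.Helper7.AutPO.Fac
import Mathlib

/-!
# Field automorphisms of `PΩ(Q)` are not induced by similarities (helper7)

If `PhO σ = DhO g` then `σ = 1`: compare the long root elements `sg u (t • w)` for `u, w` with
entries fixed by `σ`.
-/

set_option autoImplicit false
set_option linter.unusedSectionVars false

namespace Cfsg.Agent.Lib.H7AutPO

open Matrix Cfsg Cfsg.Agent.Lib.H7AutPSp Cfsg.Agent.Lib.Helper5.OrthAut Cfsg.Agent.H9.Orth
  Cfsg.Agent.Lib.Helper5.OrthSN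

universe u

variable {ι : Type} [Fintype ι] [DecidableEq ι] {F : Type u} [Field F]
variable {Q : (ι → F) → F}

/-- entrywise action on vectors -/
def vmap (σ : RingAut F) (v : ι → F) : ι → F := fun i => σ (v i)

theorem vmap_add (σ : RingAut F) (a b : ι → F) : vmap σ (a + b) = vmap σ a + vmap σ b := by
  funext i; simp [vmap]

theorem vmap_sub (σ : RingAut F) (a b : ι → F) : vmap σ (a - b) = vmap σ a - vmap σ b := by
  funext i; simp [vmap]

theorem vmap_smul (σ : RingAut F) (c : F) (a : ι → F) : vmap σ (c • a) = σ c • vmap σ a := by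
  funext i; simp [vmap]

theorem vmap_symm (σ : RingAut F) (a : ι → F) : vmap σ (vmap σ.symm a) = a := by
  funext i; simp [vmap]

theorem act_gmapI (σ : RingAut F) (g : GL ι F) (x : ι → F) :
    act (gmapI σ g) x = vmap σ (act g (vmap σ.symm x)) := by
  show (gmapI σ g).val *ᵥ x = _
  rw [gmapI_val, map_mulVec_symmI]
  rfl

theorem pol_vmap (hc : FieldCompat Q) (σ : RingAut F) (a b : ι → F) :
    pol Q (vmap σ a) (vmap σ b) = σ (pol Q a b) := by
  unfold pol QuadraticMap.polar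
  rw [← vmap_add]
  have h1 := hc σ (a + b)
  have h2 := hc σ a
  have h3 := hc σ b
  unfold vmap
  rw [h1, h2, h3, map_sub, map_sub]

section main

variable (hQ : Cfsg.Geo.IsNondegenerateQuadraticForm Q)
include hQ

/-- the entrywise image of a long root element with rational vectors -/
theorem gmapI_sg (hc : FieldCompat Q) (σ : RingAut F) (u w : ι → F) (hu : Q u = 0)
    (hw : Q w = 0) (huw : pol Q u w = 0) (hur : vmap σ u = u) (hwr : vmap σ w = w) (t : F) :
    gmapI σ (sg hQ u (t • w)) = sg hQ u (σ t • w) := by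
  have h1 : pol Q u (t • w) = 0 := by rw [pol_smul_right hQ, huw, mul_zero]
  have h2 : pol Q u (σ t • w) = 0 := by rw [pol_smul_right hQ, huw, mul_zero]
  have h3 : Q (t • w) = 0 := by rw [Q_smul hQ, hw, mul_zero]
  have h4 : Q (σ t • w) = 0 := by rw [Q_smul hQ, hw, mul_zero]
  apply gl_ext
  intro x
  rw [act_gmapI, act_sg hQ u (t • w) hu h1, act_sg hQ u (σ t • w) hu h2, h3, h4, zero_mul,
    zero_mul, sub_zero, sub_zero, vmap_sub, vmap_add, vmap_smul, vmap_smul, vmap_smul, vmap_symm,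
    hur, hwr, ← pol_vmap hc σ, ← pol_vmap hc σ, vmap_symm, vmap_smul, hur, hwr, smul_smul]

/-- the action of `sg u (t • w)` for singular `w` -/
theorem act_sg_smul (u w : ι → F) (hu : Q u = 0) (hw : Q w = 0) (huw : pol Q u w = 0) (t : F)
    (x : ι → F) :
    act (sg hQ u (t • w)) x = x + t • (act (sg hQ u w) x - x) := by
  have h1 : pol Q u (t • w) = 0 := by rw [pol_smul_right hQ, huw, mul_zero]
  have h3 : Q (t • w) = 0 := by rw [Q_smul hQ, hw, mul_zero]
  rw [act_sg hQ u (t • w) hu h1, act_sg hQ u w hu huw, h3, hw, zero_mul, sub_zero,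
    sub_zero, pol_smul_right hQ]
  module

variable [Fintype F]

/-- **a field automorphism induced by a similarity is trivial** -/
theorem eq_one_of_PhO_eq_DhO (hc : FieldCompat Q) (hn : 7 ≤ Fintype.card ι) (h2 : (2 : F) ≠ 0)
    (u w : ι → F) (hu : Q u = 0) (hw : Q w = 0) (huw : pol Q u w = 0)
    (hur : ∀ σ : RingAut F, vmap σ u = u) (hwr : ∀ σ : RingAut F, vmap σ w = w)
    (x₀ : ι → F) (hx₀ : act (sg hQ u w) x₀ ≠ x₀)
    (σ : RingAut F) (g : ↥(Cfsg.Geo.quadSimilarityGroup (F := F) Q))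
    (h : PhO hc σ = DhO Q g) : σ = 1 := by
  -- step 1: up to sign
  have hpm : ∀ t : F, g.1 * sg hQ u (t • w) * g.1⁻¹ = sg hQ u (σ t • w) ∨
      g.1 * sg hQ u (t • w) * g.1⁻¹ = -sg hQ u (σ t • w) := by
    intro t
    have h1 : pol Q u (t • w) = 0 := by rw [pol_smul_right hQ, huw, mul_zero]
    have h3 : Q (t • w) = 0 := by rw [Q_smul hQ, hw, mul_zero]
    obtain ⟨y, hy, hyx⟩ := exists_omega_sg hQ hn u (t • w) hu h3 h1
    have e := DFunLike.congr_fun h (prC (⟨y, hy⟩ : ↥(Cfsg.Omega F Q)))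
    rw [PhO_pr, DhO_pr, prC_eq_iff] at e
    have hz := center_omega_val hQ hn _ e
    rw [Subgroup.coe_mul, Subgroup.coe_mul, Subgroup.coe_inv, Subgroup.coe_inv] at hz
    have ea : (((commAut (fieldIso hc σ) (⟨y, hy⟩ : ↥(Cfsg.Omega F Q)) : ↥(Cfsg.Omega F Q)) :
        ↥(Cfsg.isometryGroup F Q)) : GL ι F) = sg hQ u (σ t • w) := by
      show gmapI σ (y : GL ι F) = _
      rw [hyx, gmapI_sg hQ hc σ u w hu hw huw (hur σ) (hwr σ)]
    have eb : (((commAut (conjIso Q g) (⟨y, hy⟩ : ↥(Cfsg.Omega F Q)) : ↥(Cfsg.Omega F Q)) :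
        ↥(Cfsg.isometryGroup F Q)) : GL ι F) = g.1 * sg hQ u (t • w) * g.1⁻¹ := by
      show g.1 * (y : GL ι F) * g.1⁻¹ = _
      rw [hyx]
    rw [ea, eb] at hz
    rcases hz with hz | hz
    · left
      exact (inv_mul_eq_one.1 hz).symm
    · right
      have : g.1 * sg hQ u (t • w) * g.1⁻¹ = sg hQ u (σ t • w) * (-1) := by
        rw [← hz]; group
      rw [this, mul_neg, mul_one]
  -- step 2: exactly
  have hex : ∀ t : F, g.1 * sg hQ u (t • w) * g.1⁻¹ = sg hQ u (σ t • w) := by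
    intro t
    have h1 : pol Q u (((2 : F)⁻¹ * t) • w) = 0 := by rw [pol_smul_right hQ, huw, mul_zero]
    have h1' : pol Q u ((σ ((2 : F)⁻¹ * t)) • w) = 0 := by
      rw [pol_smul_right hQ, huw, mul_zero]
    have hsq : sg hQ u (t • w) = sg hQ u (((2 : F)⁻¹ * t) • w) * sg hQ u (((2 : F)⁻¹ * t) • w) := by
      rw [sg_mul hQ u _ _ h1 h1, ← add_smul]
      congr 2
      field_simp
      ring
    have hsq' : sg hQ u (σ t • w) =
        sg hQ u ((σ ((2 : F)⁻¹ * t)) • w) * sg hQ u ((σ ((2 : F)⁻¹ * t)) • w) := by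
      rw [sg_mul hQ u _ _ h1' h1', ← add_smul, ← map_add]
      congr 3
      field_simp
      ring
    have : g.1 * sg hQ u (t • w) * g.1⁻¹ =
        (g.1 * sg hQ u (((2 : F)⁻¹ * t) • w) * g.1⁻¹) *
          (g.1 * sg hQ u (((2 : F)⁻¹ * t) • w) * g.1⁻¹) := by
      rw [hsq]; group
    rw [this]
    rcases hpm ((2 : F)⁻¹ * t) with h6 | h6
    · rw [h6, ← hsq']
    · rw [h6, neg_mul_neg, ← hsq']
  -- step 3: compare
  have h1g := hex 1
  rw [map_one, one_smul] at h1g
  apply RingEquiv.ext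
  intro t
  show σ t = t
  have hcomm : ∀ y : ι → F, act g.1 (act (sg hQ u w) y) = act (sg hQ u w) (act g.1 y) := by
    intro y
    have : g.1 * sg hQ u w = sg hQ u w * g.1 := by
      calc g.1 * sg hQ u w = (g.1 * sg hQ u w * g.1⁻¹) * g.1 := by group
        _ = sg hQ u w * g.1 := by rw [h1g]
    rw [← act_mul, ← act_mul, this]
  have ht := hex t
  have ht2 : g.1 * sg hQ u (t • w) = sg hQ u (σ t • w) * g.1 := by
    calc g.1 * sg hQ u (t • w) = (g.1 * sg hQ u (t • w) * g.1⁻¹) * g.1 := by group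
      _ = _ := by rw [ht]
  have key := congrArg (fun M : GL ι F => act M (act g.1⁻¹ x₀)) ht2
  simp only [act_mul] at key
  rw [act_act_inv, act_sg_smul hQ u w hu hw huw, act_sg_smul hQ u w hu hw huw, act_add,
    act_smul, act_sub, hcomm, act_act_inv] at key
  have key2 : (t - σ t) • (act (sg hQ u w) x₀ - x₀) = 0 := by
    rw [sub_smul]
    have := congrArg (fun v => v - x₀) key
    simp only [add_sub_cancel_left] at this
    rw [this, sub_self]
  rcases smul_eq_zero.1 key2 with h | h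
  · exact (sub_eq_zero.1 h).symm
  · exact absurd (sub_eq_zero.1 h) hx₀

end main

end Cfsg.Agent.Lib.H7AutPO
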