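import Mathlib

/-!
# A quotient `A ⧸ N` with `N ≤ D` of relative index two and a complement to `D` (helper7)

If `N ≤ D` are normal in `A`, `|D : N| = 2`, and `κ : X →* A` is a complement to `D`
(`A = D · κ(X)`, `κ x ∈ D → x = 1`), then `A ⧸ N ≃* ZMod 2 × X`.
-/

set_option autoImplicit false

namespace Cfsg.Agent.Lib.H7AutPO

theorem zmod2_cases' (x : ZMod 2) : x = 0 ∨ x = 1 := by
  revert x
  decide

/-- the homomorphism `ZMod 2 → G` attached to an element of square one -/
noncomputable def zmod2Hom {G : Type*} [Group G] (z : G) (hz : z * z = 1) :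
    Multiplicative (ZMod 2) →* G :=
  MonoidHom.mk' (fun a => if Multiplicative.toAdd a = 0 then 1 else z) (by
    intro a b
    have h11 : (1 + 1 : ZMod 2) = 0 := by decide
    rcases zmod2_cases' (Multiplicative.toAdd a) with ha | ha <;>
      rcases zmod2_cases' (Multiplicative.toAdd b) with hb | hb <;>
      simp [toAdd_mul, ha, hb, h11, hz])

theorem zmod2Hom_apply {G : Type*} [Group G] (z : G) (hz : z * z = 1)
    (a : Multiplicative (ZMod 2)) :
    zmod2Hom z hz a = if Multiplicative.toAdd a = 0 then 1 else z := rfl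

theorem quot_equiv_of_index_two {A X : Type*} [Group A] [Group X] (N D : Subgroup A)
    [hN : N.Normal] [hD : D.Normal] (hND : N ≤ D) (hidx : N.relIndex D = 2) (κ : X →* A)
    (hfac : ∀ a, ∃ d ∈ D, ∃ x, a = d * κ x) (hinj : ∀ x, κ x ∈ D → x = 1) :
    Nonempty (Multiplicative (ZMod 2) × X ≃* A ⧸ N) := by
  classical
  obtain ⟨a₀, ha₀D, hxor⟩ := Subgroup.relIndex_eq_two_iff.1 hidx
  have ha₀N : a₀ ∉ N := by
    have := hxor 1 (one_mem D)
    rw [one_mul] at this
    rcases this with ⟨h1, h2⟩ | ⟨h1, h2⟩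
    · exact (h2 (one_mem N)).elim
    · exact h2
  have hmul : ∀ b ∈ D, b ∉ N → b * a₀ ∈ N := by
    intro b hb hbN
    rcases hxor b hb with ⟨h1, h2⟩ | ⟨h1, h2⟩
    · exact h1
    · exact (hbN h1).elim
  have hsq : a₀ * a₀ ∈ N := hmul a₀ ha₀D ha₀N
  set z : A ⧸ N := QuotientGroup.mk a₀ with hz
  have hzz : z * z = 1 := by
    rw [hz, ← QuotientGroup.mk_mul]
    exact (QuotientGroup.eq_one_iff _).2 hsq
  have hz1 : z ≠ 1 := by
    intro h
    exact ha₀N ((QuotientGroup.eq_one_iff _).1 h)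
  have hzinv : z⁻¹ = z := inv_eq_of_mul_eq_one_right hzz
  -- every element of `D` is `1` or `z` modulo `N`
  have hD2 : ∀ b ∈ D, (QuotientGroup.mk b : A ⧸ N) = 1 ∨ (QuotientGroup.mk b : A ⧸ N) = z := by
    intro b hb
    by_cases hbN : b ∈ N
    · left
      exact (QuotientGroup.eq_one_iff _).2 hbN
    · right
      have h1 := hmul b hb hbN
      have h2 : (QuotientGroup.mk b : A ⧸ N) * z = 1 := by
        rw [hz, ← QuotientGroup.mk_mul]
        exact (QuotientGroup.eq_one_iff _).2 h1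
      rw [← hzinv]
      exact eq_inv_of_mul_eq_one_left h2
  -- `z` is central
  have hzc : ∀ y : A ⧸ N, Commute y z := by
    intro y
    obtain ⟨g, rfl⟩ := QuotientGroup.mk_surjective y
    have h1 : g * a₀ * g⁻¹ ∈ D := hD.conj_mem a₀ ha₀D g
    have h2 : g * a₀ * g⁻¹ ∉ N := by
      intro h
      apply ha₀N
      have := hN.conj_mem _ h g⁻¹
      rw [inv_inv] at this
      have e : g⁻¹ * (g * a₀ * g⁻¹) * g = a₀ := by group
      rwa [e] at this
    rcases hD2 _ h1 with h3 | h3
    · exact (h2 ((QuotientGroup.eq_one_iff _).1 h3)).elim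
    · rw [QuotientGroup.mk_mul, QuotientGroup.mk_mul, QuotientGroup.mk_inv] at h3
      show (QuotientGroup.mk g : A ⧸ N) * z = z * QuotientGroup.mk g
      exact mul_inv_eq_iff_eq_mul.1 h3
  let f₂ : X →* A ⧸ N := (QuotientGroup.mk' N).comp κ
  let Ψ : Multiplicative (ZMod 2) × X →* A ⧸ N :=
    MonoidHom.noncommCoprod (zmod2Hom z hzz) f₂ (by
      intro a x
      rw [zmod2Hom_apply]
      split_ifs
      · exact Commute.one_left _
      · exact (hzc _).symm)
  have hΨ : ∀ a x, Ψ (a, x) = zmod2Hom z hzz a * QuotientGroup.mk (κ x) := fun a x => rfl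
  have hzD : ∀ a, ∃ d ∈ D, zmod2Hom z hzz a = QuotientGroup.mk d := by
    intro a
    rw [zmod2Hom_apply]
    split_ifs
    · exact ⟨1, one_mem D, rfl⟩
    · exact ⟨a₀, ha₀D, rfl⟩
  refine ⟨MulEquiv.ofBijective Ψ ⟨?_, ?_⟩⟩
  · rw [injective_iff_map_eq_one]
    rintro ⟨a, x⟩ h
    rw [hΨ] at h
    obtain ⟨d, hd, hda⟩ := hzD a
    rw [hda, ← QuotientGroup.mk_mul, QuotientGroup.eq_one_iff] at h
    have h1 : κ x ∈ D := by
      have := D.mul_mem (D.inv_mem hd) (hND h)
      rwa [inv_mul_cancel_left] at this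
    have hx : x = 1 := hinj x h1
    subst hx
    rw [map_one, mul_one] at h
    have ha : a = 1 := by
      rcases zmod2_cases' (Multiplicative.toAdd a) with ha | ha
      · apply Multiplicative.toAdd.injective
        rw [ha]
        rfl
      · exfalso
        rw [zmod2Hom_apply, if_neg (by rw [ha]; decide)] at hda
        apply hz1
        rw [hda]
        exact (QuotientGroup.eq_one_iff _).2 h
    rw [ha]
    rfl
  · intro y
    obtain ⟨g, rfl⟩ := QuotientGroup.mk_surjective y
    obtain ⟨d, hd, x, rfl⟩ := hfac g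
    rcases hD2 d hd with h | h
    · refine ⟨(1, x), ?_⟩
      rw [hΨ, map_one, one_mul, QuotientGroup.mk_mul, h, one_mul]
    · refine ⟨(Multiplicative.ofAdd 1, x), ?_⟩
      rw [hΨ, zmod2Hom_apply, if_neg (by rw [toAdd_ofAdd]; decide), QuotientGroup.mk_mul, h]

end Cfsg.Agent.Lib.H7AutPO
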