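import Cfsg.Agent.Lib.Helper7.AutPO.CountO
import Cfsg.Agent.Lib.Helper7.AutPO.IndexTwoSplit
import Cfsg.Agent.Lib.Helper5.OrthAut.Images
import Cfsg.Agent.H9.OrthM
import Mathlib

/-!
# `Out(Ω_{2m+1}(q)) ≃ ZMod 2 × ZMod f`, conditional on the factorisation (helper7)
-/

set_option autoImplicit false
set_option linter.unusedSectionVars false

namespace Cfsg.Agent.Lib.H7AutPO

open Matrix Cfsg Cfsg.Agent.Lib.H7AutPSp Cfsg.Agent.Lib.Helper5.OrthAut Cfsg.Agent.H9.Orth
  Cfsg.Agent.Lib.Helper5.OrthSN Cfsg.Agent.Lib.Helper5.OrthCls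

universe u

section generic

variable {ι : Type} [Fintype ι] [DecidableEq ι] {F : Type u} [Field F] [Fintype F]
variable {Q : (ι → F) → F} (hQ : Cfsg.Geo.IsNondegenerateQuadraticForm Q)
include hQ

/-- `Ω(Q)` is perfect in dimension at least 7 -/
theorem omega_perfect (hn : 7 ≤ Fintype.card ι) : commutator ↥(Cfsg.Omega F Q) = ⊤ := by
  have e1 : ↥(Cfsg.Omega F Q) ≃* ↥(Cfsg.Geo.omegaGL Q) :=
    (Cfsg.Omega F Q).equivMapOfInjective (Cfsg.isometryGroup F Q).subtype
      (Cfsg.isometryGroup F Q).subtype_injective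
  have e2 : ↥(Cfsg.Geo.omegaGL Q) ≃* ↥(NN hQ) := MulEquiv.subgroupCongr (omegaGL_eq_NN hQ hn)
  have hperf : commutator ↥(NN hQ) = ⊤ := by
    rw [eq_top_iff]
    intro x _
    have h1 : (x : GL ι F) ∈ ⁅NN hQ, NN hQ⁆ := NN_le_commutator hQ hn x.2
    rw [← Subgroup.map_subtype_commutator] at h1
    obtain ⟨y, hy, hyx⟩ := h1
    have : y = x := Subtype.ext hyx
    rw [← this]; exact hy
  let e := e1.trans e2
  rw [eq_top_iff]
  intro x _
  have hx : e x ∈ commutator ↥(NN hQ) := by rw [hperf]; trivial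
  rw [commutator_def] at hx ⊢
  have h3 := Subgroup.map_commutator (⊤ : Subgroup ↥(NN hQ)) ⊤ e.symm.toMonoidHom
  have h4 : Subgroup.map e.symm.toMonoidHom (⊤ : Subgroup ↥(NN hQ)) = ⊤ := by
    rw [← MonoidHom.range_eq_map, MonoidHom.range_eq_top]
    exact e.symm.surjective
  rw [h4] at h3
  rw [← h3]
  exact ⟨e x, hx, e.symm_apply_apply x⟩

/-- `PΩ(Q)` is perfect -/
theorem pomega_perfect (hn : 7 ≤ Fintype.card ι) : commutator (Cfsg.POmega F Q) = ⊤ := by
  have h3 := Subgroup.map_commutator (⊤ : Subgroup ↥(Cfsg.Omega F Q)) ⊤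
    (QuotientGroup.mk' (Subgroup.center ↥(Cfsg.Omega F Q)))
  have h4 : Subgroup.map (QuotientGroup.mk' (Subgroup.center ↥(Cfsg.Omega F Q)))
      (⊤ : Subgroup ↥(Cfsg.Omega F Q)) = ⊤ := by
    rw [← MonoidHom.range_eq_map, MonoidHom.range_eq_top]
    exact QuotientGroup.mk'_surjective _
  rw [h4, ← commutator_def, omega_perfect hQ hn, h4] at h3
  exact h3.symm

/-- the centre of `PΩ(Q)` is trivial -/
theorem center_pomega (hn : 7 ≤ Fintype.card ι) : Subgroup.center (Cfsg.POmega F Q) = ⊥ := by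
  have hs := simple_POmega hQ hn
  rcases (Subgroup.Normal.eq_bot_or_eq_top
    (H := Subgroup.center (Cfsg.POmega F Q)) inferInstance) with h | h
  · exact h
  · exfalso
    have h1 : commutator (Cfsg.POmega F Q) = ⊥ := by
      rw [commutator_def, Subgroup.commutator_eq_bot_iff_le_centralizer,
        Subgroup.coe_top, Subgroup.centralizer_univ, h]
    rw [pomega_perfect hQ hn] at h1
    have : Nontrivial (Cfsg.POmega F Q) := hs.toNontrivial
    exact top_ne_bot h1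

/-- `|Inn(PΩ)| = |PΩ|` -/
theorem card_inn_pomega (hn : 7 ≤ Fintype.card ι) :
    Nat.card (Cfsg.Inn (Cfsg.POmega F Q)) = Nat.card (Cfsg.POmega F Q) := by
  have hinj : Function.Injective (MulAut.conj : Cfsg.POmega F Q →* MulAut (Cfsg.POmega F Q)) := by
    rw [injective_iff_map_eq_one]
    intro a ha
    have hc : a ∈ Subgroup.center (Cfsg.POmega F Q) := by
      rw [Subgroup.mem_center_iff]
      intro g
      have h1 := congrArg (fun β : MulAut (Cfsg.POmega F Q) => β g) ha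
      simp only [MulAut.conj_apply, MulAut.one_apply] at h1
      exact (mul_inv_eq_iff_eq_mul.1 h1).symm
    rw [center_pomega hQ hn] at hc
    exact Subgroup.mem_bot.1 hc
  exact (Nat.card_congr (MonoidHom.ofInjective hinj).toEquiv).symm

omit [Fintype F] hQ in
theorem inn_le_DhO_range : Cfsg.Inn (Cfsg.POmega F Q) ≤ (DhO Q).range := by
  rw [inn_eq, DhO_eq_conjHom]
  exact Subgroup.map_le_range _ _

end generic

variable {F : Type u} [Field F] [Fintype F]

theorem card_DhO_range_eq (p f : ℕ) [Fact p.Prime] (hF : Fintype.card F = p ^ f) (hodd : Odd p)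
    {m : ℕ} (hm : 3 ≤ m) :
    Nat.card (DhO (Cfsg.quadFormOdd m F)).range =
      2 * Nat.card (Cfsg.POmega F (Cfsg.quadFormOdd m F)) := by
  have hoddq : Odd (p ^ f) := hodd.pow
  have h2 : (2 : F) ≠ 0 := two_ne_zero_of_odd_card (by rw [hF]; exact hoddq)
  have h3 := card_DhO_range (F := F) h2 hm
  have h4 := Cfsg.Agent.S0286.result (F := F) hF hoddq m
  have h5 := Cfsg.Agent.S0292.result (F := F) hF hoddq m hm
  rw [h4] at h3
  rw [h5]
  have : 2 * Nat.card (DhO (Cfsg.quadFormOdd m F)).range =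
      2 * (p ^ f) ^ (m ^ 2) * ∏ i ∈ Finset.range m, ((p ^ f) ^ (2 * (i + 1)) - 1) := h3
  rw [mul_assoc] at this
  exact Nat.eq_of_mul_eq_mul_left (by norm_num) this

theorem relIndex_inn_DhO (p f : ℕ) [Fact p.Prime] (hF : Fintype.card F = p ^ f) (hodd : Odd p)
    {m : ℕ} (hm : 3 ≤ m) :
    (Cfsg.Inn (Cfsg.POmega F (Cfsg.quadFormOdd m F))).relIndex
      (DhO (Cfsg.quadFormOdd m F)).range = 2 := by
  have hoddq : Odd (p ^ f) := hodd.pow
  have h2 : (2 : F) ≠ 0 := two_ne_zero_of_odd_card (by rw [hF]; exact hoddq)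
  have hQ := isNondeg_quadFormOdd (F := F) m h2
  have hn : 7 ≤ Fintype.card (IO m) := by rw [card_IO]; omega
  have h1 := Subgroup.relIndex_mul_relIndex ⊥ _ _ bot_le
    (inn_le_DhO_range (Q := Cfsg.quadFormOdd m F))
  rw [Subgroup.relIndex_bot_left, Subgroup.relIndex_bot_left, card_inn_pomega hQ hn,
    card_DhO_range_eq p f hF hodd hm, mul_comm] at h1
  have hpos : 0 < Nat.card (Cfsg.POmega F (Cfsg.quadFormOdd m F)) := Nat.card_pos
  exact Nat.eq_of_mul_eq_mul_right hpos h1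

/-- **`Out(Ω_{2m+1}(q)) ≃ ZMod 2 × ZMod f`**, given the factorisation -/
theorem out_equiv_odd (p f : ℕ) [Fact p.Prime] (hF : Fintype.card F = p ^ f) (hodd : Odd p)
    {m : ℕ} (hm : 3 ≤ m) (hfac : FacO (Cfsg.quadFormOdd m F)) :
    Nonempty (Cfsg.Out (Cfsg.POmega F (Cfsg.quadFormOdd m F)) ≃*
      Multiplicative (ZMod 2 × ZMod f)) := by
  have hoddq : Odd (p ^ f) := hodd.pow
  have h2 : (2 : F) ≠ 0 := two_ne_zero_of_odd_card (by rw [hF]; exact hoddq)
  have hc := fieldCompat_odd (F := F) m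
  have hD := DhO_range_normal hc hfac
  have hchar := Cfsg.Agent.S2690.charP_of_card_pow p f hF
  obtain ⟨hcyc, hcard⟩ := Cfsg.Agent.S2602.ringAut_cyclic (F := F) p f hF
  obtain ⟨e2⟩ : Nonempty (RingAut F ≃* Multiplicative (ZMod f)) := by
    rw [← hcard]
    exact ⟨(zmodCyclicMulEquiv hcyc).symm⟩
  obtain ⟨e1⟩ := quot_equiv_of_index_two (Cfsg.Inn (Cfsg.POmega F (Cfsg.quadFormOdd m F)))
    (DhO (Cfsg.quadFormOdd m F)).range inn_le_DhO_range (relIndex_inn_DhO p f hF hodd hm)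
    (PhO hc)
    (by
      intro β
      obtain ⟨g, σ, -, rfl⟩ := fac_decomp hc hfac β
      exact ⟨DhO _ g, ⟨g, rfl⟩, σ, rfl⟩)
    (fun σ hσ => eq_one_of_PhO_mem_range_odd h2 hm σ hσ)
  exact ⟨(e1.symm.trans (MulEquiv.prodCongr (MulEquiv.refl _) e2)).trans
    (MulEquiv.prodMultiplicative (ZMod 2) (ZMod f)).symm⟩

end Cfsg.Agent.Lib.H7AutPO
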