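import Cfsg.Agent.Lib.Helper7.AutPO.BaseO
import Cfsg.Agent.Lib.Helper7.AutPO.OutO
import Cfsg.Agent.Lib.Helper5.Orth.SpinorOdd
import Cfsg.Agent.Lib.Helper5.Orth.OmegaOrder
import Mathlib

/-!
# Inner-diagonal automorphisms of `Ω_{2m+1}(F)` that are inner: the spinor norm criterion
(helper7)
-/

set_option autoImplicit false
set_option linter.unusedSectionVars false

namespace Cfsg.Agent.Lib.H7AutPO

open Matrix Cfsg Cfsg.Agent.Lib.H7AutPSp Cfsg.Agent.Lib.H7AutPSL Cfsg.Agent.H9.Orth
  Cfsg.Agent.Lib.Helper5.OrthAut Cfsg.Agent.Lib.Helper5.OrthCls Cfsg.Agent.Lib.Helper5.OrthSN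
  Cfsg.Agent.Lib.Helper5.OrthPar

universe u v

section generic

variable {ι : Type} [Fintype ι] [DecidableEq ι] {F : Type u} [Field F]

/-- `-1` has odd residual rank in odd dimension -/
theorem not_par_neg_one (h2 : (2 : F) ≠ 0) (hodd : Odd (Fintype.card ι)) :
    ¬ par (-1 : GL ι F) := by
  have hne : (-1 : F) ≠ 1 := by
    intro h
    apply h2
    linear_combination -h
  have hg' : ((-1 : GL ι F) : Matrix ι ι F) = Matrix.diagonal (fun _ => (-1 : F)) := by
    rw [Units.val_neg, Units.val_one]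
    ext x y
    by_cases h : x = y
    · subst h; simp
    · simp [h]
  have hrank := rank_diag_sub_one (-1 : GL ι F) (fun _ => (-1 : F)) hg'
  have hc : Nat.card {_k : ι // (-1 : F) ≠ 1} = Fintype.card ι := by
    rw [Nat.card_congr (Equiv.subtypeUnivEquiv (fun _ => hne)), Nat.card_eq_fintype_card]
  rw [hc] at hrank
  unfold par
  rw [hrank]
  exact Nat.not_even_iff_odd.2 hodd

end generic

variable {F : Type u} [Field F] [Fintype F]

/-- **the spinor norm criterion**: the automorphism induced by an even product of reflections is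
inner iff the product of the norms is a square -/
theorem prod_rf_mem_inn_iff (h2 : (2 : F) ≠ 0) {m : ℕ} (hm : 3 ≤ m)
    (hQ : Cfsg.Geo.IsNondegenerateQuadraticForm (Cfsg.quadFormOdd m F))
    (xs : List (IO m → F)) (hxs : ∀ x ∈ xs, Cfsg.quadFormOdd m F x ≠ 0) (hev : Even xs.length) :
    DhO (Cfsg.quadFormOdd m F) ⟨(xs.map (rf hQ)).prod, iso_le_sim _ (prod_rf_mem hQ xs)⟩ ∈
      Cfsg.Inn (Cfsg.POmega F (Cfsg.quadFormOdd m F)) ↔
      IsSquare (xs.map (Cfsg.quadFormOdd m F)).prod := by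
  have hn : 7 ≤ Fintype.card (IO m) := by rw [card_IO]; omega
  have hcard2 : Fintype.card F ≠ 2 := by
    intro h
    apply h2
    have h3 : ((Fintype.card F : ℕ) : F) = 0 := Nat.cast_card_eq_zero F
    rw [h] at h3
    exact_mod_cast h3
  have hgen := Cfsg.Agent.H9.Orth.iso_le_RR hQ (Or.inl hcard2)
  constructor
  · intro h
    rw [inn_eq, ← DhO_eq_conjHom] at h
    obtain ⟨ω, hω, hωg⟩ := h
    rw [SetLike.mem_coe, Subgroup.mem_subgroupOf] at hω
    obtain ⟨y, hy, hyω⟩ := hω
    obtain ⟨c, hc⟩ := (DhO_eq_iff hQ hn h2 _ _).1 hωg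
    have hyv : y.1.val = (c : F) • ((xs.map (rf hQ)).prod : GL (IO m) F).val := by
      have : (y : GL (IO m) F) = ω.1 := hyω
      rw [this]
      exact hc
    -- `c = ± 1`
    have hcc : (c : F) * c = 1 := by
      have h1 := (mem_iso_iff _ y.1).1 y.2 (Pi.single (Sum.inl ()) 1)
      have h3 := (mem_iso_iff _ _).1 (prod_rf_mem hQ xs) (Pi.single (Sum.inl ()) 1)
      rw [hyv, Matrix.smul_mulVec, hQ.smul, h3, quadFormOdd_single_inl, mul_one] at h1
      rw [← h1]
      ring
    have hpary := omega_par_gen hQ hgen y hy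
    have hparg := (par_prod hQ xs hxs).2 hev
    have hc1 : (c : F) = 1 ∨ (c : F) = -1 := by
      have : ((c : F) - 1) * ((c : F) + 1) = 0 := by linear_combination hcc
      rcases mul_eq_zero.1 this with h | h
      · left; linear_combination h
      · right; linear_combination h
    rcases hc1 with hc1 | hc1
    · rw [hc1, one_smul] at hyv
      have hy' : y = (xs.map (R hQ)).prod := by
        apply Subtype.ext
        apply Units.ext
        rw [val_prod_R]
        exact hyv
      rw [hy'] at hy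
      exact ((prod_R_mem_omega_iff hQ h2 hgen xs hxs).1 hy).2
    · exfalso
      have hy' : (y : GL (IO m) F) = (-1 : GL (IO m) F) * (xs.map (rf hQ)).prod := by
        apply Units.ext
        rw [Units.val_mul, Units.val_neg, Units.val_one, Matrix.neg_mul, Matrix.one_mul, hyv, hc1,
          neg_one_smul]
      rw [hy', par_mul_gen hQ hgen _ _ (neg_one_mem_iso m) (prod_rf_mem hQ xs)] at hpary
      exact not_par_neg_one h2 (by rw [card_IO]; exact ⟨m, rfl⟩) (hpary.2 hparg)
  · intro hsq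
    have hΩ := (prod_R_mem_omega_iff hQ h2 hgen xs hxs).2 ⟨hev, hsq⟩
    rw [inn_eq, ← DhO_eq_conjHom]
    refine ⟨⟨(xs.map (rf hQ)).prod, iso_le_sim _ (prod_rf_mem hQ xs)⟩, ?_, rfl⟩
    rw [SetLike.mem_coe, Subgroup.mem_subgroupOf]
    exact ⟨(xs.map (R hQ)).prod, hΩ, val_prod_R hQ xs⟩

/-! ### base change of reflections -/

omit [Fintype F] in
/-- base change of a reflection -/
theorem map_rf {F₀ : Type v} [Field F₀] (m : ℕ) (ι : F₀ →+* F)
    (hQ₀ : Cfsg.Geo.IsNondegenerateQuadraticForm (Cfsg.quadFormOdd m F₀))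
    (hQ : Cfsg.Geo.IsNondegenerateQuadraticForm (Cfsg.quadFormOdd m F))
    (x : IO m → F₀) (hx : Cfsg.quadFormOdd m F₀ x ≠ 0) :
    Matrix.GeneralLinearGroup.map ι (rf hQ₀ x) = rf hQ (ι ∘ x) := by
  have hx' : Cfsg.quadFormOdd m F (ι ∘ x) ≠ 0 := by
    rw [compat_odd]
    intro h
    exact hx (ι.injective (by rw [h, map_zero]))
  apply Units.ext
  ext i j
  have h1 : (Matrix.GeneralLinearGroup.map ι (rf hQ₀ x)).val *ᵥ (Pi.single j 1) =
      (rf hQ (ι ∘ x)).val *ᵥ (Pi.single j 1) := by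
    have e1 := act_map ι (rf hQ₀ x) (Pi.single j 1)
    rw [← single_comp ι j] at e1
    have e2 : act (Matrix.GeneralLinearGroup.map ι (rf hQ₀ x)) (Pi.single j 1) =
        (Matrix.GeneralLinearGroup.map ι (rf hQ₀ x)).val *ᵥ (Pi.single j 1) := rfl
    rw [← e2, e1, act_rf hQ₀ x hx]
    have e3 : (rf hQ (ι ∘ x)).val *ᵥ (Pi.single j 1) = act (rf hQ (ι ∘ x)) (Pi.single j 1) := rfl
    rw [e3, act_rf hQ _ hx', single_comp ι j, pol_comp ι (compat_odd m ι), compat_odd]
    funext k
    simp only [Function.comp_apply, Pi.sub_apply, Pi.smul_apply, smul_eq_mul, map_sub, map_mul,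
      map_inv₀]
  have h2 := congrFun h1 i
  rw [Matrix.mulVec_single_one, Matrix.mulVec_single_one] at h2
  exact h2

omit [Fintype F] in
theorem map_prod_rf {F₀ : Type v} [Field F₀] (m : ℕ) (ι : F₀ →+* F)
    (hQ₀ : Cfsg.Geo.IsNondegenerateQuadraticForm (Cfsg.quadFormOdd m F₀))
    (hQ : Cfsg.Geo.IsNondegenerateQuadraticForm (Cfsg.quadFormOdd m F))
    (xs : List (IO m → F₀)) (hxs : ∀ x ∈ xs, Cfsg.quadFormOdd m F₀ x ≠ 0) :
    Matrix.GeneralLinearGroup.map ι (xs.map (rf hQ₀)).prod =
      ((xs.map (fun x => ι ∘ x)).map (rf hQ)).prod := by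
  induction xs with
  | nil => simp
  | cons x xs ih =>
    rw [List.map_cons, List.prod_cons, map_mul, List.map_cons, List.map_cons, List.prod_cons,
      map_rf m ι hQ₀ hQ x (hxs x List.mem_cons_self),
      ih (fun y hy => hxs y (List.mem_cons_of_mem _ hy))]

/-! ### squares and non-squares of the fixed field -/

/-- in a quadratic extension of finite fields of odd order every element of the small field is a
square -/
theorem isSquare_of_card_sq {F₀ : Type v} [Field F₀] [Fintype F₀] (h2 : (2 : F) ≠ 0)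
    (ι : F₀ →+* F) (hcard : Fintype.card F = Fintype.card F₀ ^ 2) (s : F₀) : IsSquare (ι s) := by
  by_cases hs : s = 0
  · rw [hs, map_zero]
    exact ⟨0, by ring⟩
  have hs' : ι s ≠ 0 := fun h => hs (ι.injective (by rw [h, map_zero]))
  have hchar : ringChar F ≠ 2 := ringChar_ne_two_of_two_ne_zero h2
  rw [FiniteField.isSquare_iff hchar hs']
  have h1 : s ^ (Fintype.card F₀ - 1) = 1 := FiniteField.pow_card_sub_one_eq_one s hs
  have hoddF : Odd (Fintype.card F) := by
    by_contra hev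
    rw [Nat.not_odd_iff_even] at hev
    exact h2 (two_eq_zero_of_even_card hev)
  have hodd₀ : Odd (Fintype.card F₀) := by
    rw [hcard] at hoddF
    exact Nat.Odd.of_mul_right (by rw [← pow_two]; exact hoddF)
  obtain ⟨k, hk⟩ := hodd₀
  have h3 : Fintype.card F / 2 = (Fintype.card F₀ - 1) * (k + 1) := by
    rw [hcard, hk]
    have : (2 * k + 1) ^ 2 = 2 * ((2 * k + 1 - 1) * (k + 1)) + 1 := by
      rw [Nat.add_sub_cancel]
      ring
    rw [this]
    omega
  rw [h3, pow_mul, ← map_pow, h1, map_one, one_pow]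

omit [Fintype F] in
/-- a non-square of the fixed field of an automorphism of odd order stays a non-square -/
theorem not_isSquare_of_odd {F₀ : Type v} [Field F₀] (h2 : (2 : F) ≠ 0) (σ : RingAut F) (r : ℕ)
    (hr : Odd r) (hσ : σ ^ r = 1) (ι : F₀ →+* F) (hι : ∀ t : F, σ t = t ↔ ∃ s, ι s = t)
    (t₀ : F₀) (ht₀ : ¬ IsSquare t₀) : ¬ IsSquare (ι t₀) := by
  rintro ⟨s, hs⟩
  have hfix : σ (ι t₀) = ι t₀ := (hι _).2 ⟨t₀, rfl⟩
  have h1 : σ s * σ s = s * s := by rw [← map_mul, ← hs, hfix]
  have h3 : (σ s - s) * (σ s + s) = 0 := by linear_combination h1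
  rcases mul_eq_zero.1 h3 with h | h
  · obtain ⟨s₀, hs₀⟩ := (hι s).1 (by linear_combination h)
    apply ht₀
    refine ⟨s₀, ι.injective ?_⟩
    rw [map_mul, hs₀, hs]
  · have hneg : σ s = -s := by linear_combination h
    have hpow : ∀ k : ℕ, (σ ^ k) s = (-1) ^ k * s := by
      intro k
      induction k with
      | zero => simp
      | succ k ih =>
        rw [pow_succ', RingAut.mul_apply, ih, map_mul, map_pow, map_neg, map_one, hneg]
        ring
    have h4 := hpow r
    rw [hσ, hr.neg_one_pow, RingAut.one_apply] at h4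
    have hs0 : s = 0 := by
      have : (2 : F) * s = 0 := by linear_combination h4
      exact (mul_eq_zero.1 this).resolve_left h2
    apply ht₀
    refine ⟨0, ι.injective ?_⟩
    rw [hs, hs0, mul_zero, mul_zero, map_zero]

end Cfsg.Agent.Lib.H7AutPO
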