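import Cfsg.Agent.Lib.Helper7.AutPO.Bridge
import Mathlib

/-!
# The Gram matrix of the polar form of a quadratic form `Q : (ι → F) → F` (helper7)
-/

set_option autoImplicit false
set_option linter.unusedSectionVars false

namespace Cfsg.Agent.Lib.H7AutPO

open Matrix Cfsg Cfsg.Agent.Lib.H7AutPSp Cfsg.Agent.H9.Orth

universe u

variable {ι : Type} [Fintype ι] [DecidableEq ι] {F : Type u} [Field F]

/-- the Gram matrix of the polar form -/
def gram (Q : (ι → F) → F) : Matrix ι ι F :=
  Matrix.of fun i j => QuadraticMap.polar Q (Pi.single i 1) (Pi.single j 1)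

theorem gram_apply (Q : (ι → F) → F) (i j : ι) :
    gram Q i j = QuadraticMap.polar Q (Pi.single i 1) (Pi.single j 1) := rfl

theorem gram_transpose (Q : (ι → F) → F) : (gram Q)ᵀ = gram Q := by
  ext i j
  rw [Matrix.transpose_apply, gram_apply, gram_apply, QuadraticMap.polar_comm]

variable {Q : (ι → F) → F} (hQ : Cfsg.Geo.IsNondegenerateQuadraticForm Q)
include hQ

theorem gram_eq : gram Q = LinearMap.BilinForm.toMatrix' (BF hQ) := by
  ext i j
  rw [LinearMap.BilinForm.toMatrix'_apply, BF_apply]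
  rfl

theorem pol_eq_gram (u v : ι → F) : QuadraticMap.polar Q u v = u ⬝ᵥ (gram Q *ᵥ v) := by
  rw [gram_eq hQ, ← Matrix.toBilin'_apply', Matrix.toBilin'_toMatrix', BF_apply]

theorem two_mul_Q (v : ι → F) : 2 * Q v = v ⬝ᵥ (gram Q *ᵥ v) := by
  rw [← pol_eq_gram hQ, ← pol_self hQ]

theorem gram_det_ne_zero : (gram Q).det ≠ 0 := by
  rw [gram_eq hQ, ← Matrix.nondegenerate_iff_det_ne_zero,
    LinearMap.BilinForm.nondegenerate_toMatrix'_iff]
  exact BF_nondegenerate hQ

omit hQ in
theorem polar_sim (g : Matrix ι ι F) (c : F) (h : ∀ v, Q (g *ᵥ v) = c * Q v) (u v : ι → F) :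
    QuadraticMap.polar Q (g *ᵥ u) (g *ᵥ v) = c * QuadraticMap.polar Q u v := by
  unfold QuadraticMap.polar
  rw [← Matrix.mulVec_add, h, h, h]
  ring

/-- the entries of `gᵀ G g` -/
theorem congr_gram_apply (g : Matrix ι ι F) (i j : ι) :
    (gᵀ * gram Q * g) i j =
      QuadraticMap.polar Q (g *ᵥ Pi.single i 1) (g *ᵥ Pi.single j 1) := by
  rw [pol_eq_gram hQ, Matrix.mul_assoc, Matrix.mul_apply]
  unfold dotProduct
  apply Finset.sum_congr rfl
  intro l _
  rw [Matrix.transpose_apply, Matrix.mulVec_single_one, Matrix.mulVec_mulVec,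
    Matrix.mulVec_single_one]
  rfl

/-- a similarity transforms the Gram matrix by its multiplier -/
theorem gram_of_sim (g : Matrix ι ι F) (c : F) (h : ∀ v, Q (g *ᵥ v) = c * Q v) :
    gᵀ * gram Q * g = c • gram Q := by
  ext i j
  rw [congr_gram_apply hQ, polar_sim g c h, Matrix.smul_apply, smul_eq_mul, gram_apply]

/-- conversely (odd characteristic) -/
theorem sim_of_gram (h2 : (2 : F) ≠ 0) (g : Matrix ι ι F) (c : F)
    (h : gᵀ * gram Q * g = c • gram Q) (v : ι → F) : Q (g *ᵥ v) = c * Q v := by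
  have h1 : 2 * Q (g *ᵥ v) = 2 * (c * Q v) := by
    rw [two_mul_Q hQ, mul_left_comm, two_mul_Q hQ]
    have e : (g *ᵥ v) ⬝ᵥ (gram Q *ᵥ (g *ᵥ v)) = v ⬝ᵥ ((gᵀ * gram Q * g) *ᵥ v) := by
      rw [← Matrix.mulVec_mulVec, ← Matrix.mulVec_mulVec, Matrix.dotProduct_mulVec v gᵀ,
        Matrix.vecMul_transpose]
    rw [e, h, Matrix.smul_mulVec, dotProduct_smul, smul_eq_mul]
  exact mul_left_cancel₀ h2 h1

omit hQ in
/-- the Gram matrix of a form compatible with the field automorphisms is fixed by them -/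
theorem gram_map (hc : FieldCompat Q) (σ : RingAut F) : (gram Q).map σ = gram Q := by
  ext i j
  rw [Matrix.map_apply, gram_apply]
  unfold QuadraticMap.polar
  have hs : ∀ k : ι, (fun l => σ ((Pi.single k (1 : F) : ι → F) l)) = Pi.single k 1 := by
    intro k
    ext l
    rw [Pi.single_apply, apply_ite σ, map_one, map_zero]
  have hadd : (fun l => σ ((Pi.single i (1 : F) + Pi.single j (1 : F) : ι → F) l)) =
      Pi.single i 1 + Pi.single j 1 := by
    ext l
    rw [Pi.add_apply, map_add]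
    congr 1
    · exact congrFun (hs i) l
    · exact congrFun (hs j) l
  rw [map_sub, map_sub, ← hc σ, ← hc σ, ← hc σ, hadd, hs, hs]

end Cfsg.Agent.Lib.H7AutPO
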