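import Cfsg.Agent.Lib.Helper7.AutPO.CosetO
import Cfsg.Agent.Lib.Helper5.OrthAut.BaseChange
import Cfsg.Agent.Lib.Helper7.AutPSp.FieldCentSp
import Mathlib

/-!
# The centraliser of a field automorphism in `Inndiag(Ω_{2m+1}(F))` (helper7)

`C_{Inndiag}(PhO σ) ≃ Inndiag(Ω_{2m+1}(F₀))` for `F₀` the fixed field of `σ`.
-/

set_option autoImplicit false
set_option linter.unusedSectionVars false

namespace Cfsg.Agent.Lib.H7AutPO

open Matrix Cfsg Cfsg.Agent.Lib.H7AutPSp Cfsg.Agent.Lib.H7AutPSL Cfsg.Agent.H9.Orth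
  Cfsg.Agent.Lib.Helper5.OrthAut Cfsg.Agent.Lib.Helper5.OrthCls

universe u v

variable {F : Type u} [Field F] {F₀ : Type v} [Field F₀]

/-- the standard form is compatible with base change -/
theorem compat_odd (m : ℕ) (ι : F₀ →+* F) (v : IO m → F₀) :
    Cfsg.quadFormOdd m F (ι ∘ v) = ι (Cfsg.quadFormOdd m F₀ v) := by
  unfold Cfsg.quadFormOdd
  rw [map_add, map_pow, map_sum]
  congr 1
  apply Finset.sum_congr rfl
  intro i _
  rw [map_mul]
  rfl

theorem two_ne_zero_base (ι : F₀ →+* F) (h2 : (2 : F) ≠ 0) : (2 : F₀) ≠ 0 := by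
  intro h
  apply h2
  have := congrArg ι h
  rwa [map_ofNat, map_zero] at this

/-- base change of similarities -/
noncomputable def mapSim (h2 : (2 : F) ≠ 0) (m : ℕ) (ι : F₀ →+* F) :
    ↥(Cfsg.Geo.quadSimilarityGroup (F := F₀) (Cfsg.quadFormOdd m F₀)) →*
      ↥(Cfsg.Geo.quadSimilarityGroup (F := F) (Cfsg.quadFormOdd m F)) :=
  ((Matrix.GeneralLinearGroup.map ι).comp
      (Cfsg.Geo.quadSimilarityGroup (F := F₀) (Cfsg.quadFormOdd m F₀)).subtype).codRestrict _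
    (fun g => by
      obtain ⟨c, hc⟩ := (mem_sim_iff _ g.1).1 g.2
      rw [mem_sim_iff]
      refine ⟨Units.map (ι : F₀ →* F) c, fun w => ?_⟩
      exact sim_baseChange ι (isNondeg_quadFormOdd (F := F) m h2) (compat_odd m ι) h2 g.1 (c : F₀)
        hc w)

theorem mapSim_val (h2 : (2 : F) ≠ 0) (m : ℕ) (ι : F₀ →+* F)
    (g : ↥(Cfsg.Geo.quadSimilarityGroup (F := F₀) (Cfsg.quadFormOdd m F₀))) :
    (mapSim h2 m ι g).1.val = g.1.val.map ι := rfl

section cent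

variable [Fintype F]

/-- the similarities whose automorphism centralises a field automorphism -/
theorem comm_PhO_iff (h2 : (2 : F) ≠ 0) {m : ℕ} (hm : 3 ≤ m) (σ : RingAut F)
    (g : ↥(Cfsg.Geo.quadSimilarityGroup (F := F) (Cfsg.quadFormOdd m F))) :
    DhO _ g * PhO (fieldCompat_odd m) σ = PhO (fieldCompat_odd m) σ * DhO _ g ↔
      ∃ d : Fˣ, g.1.val.map σ = (d : F) • g.1.val := by
  have hQ := isNondeg_quadFormOdd (F := F) m h2
  have hn : 7 ≤ Fintype.card (IO m) := by rw [card_IO]; omega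
  rw [PhO_DhO, mul_left_inj, eq_comm, DhO_eq_iff hQ hn h2, gmapSim_val, gmapI_val]

/-- a similarity centralising a field automorphism is, up to a scalar, fixed by it -/
theorem exists_fixed_rep_O (h2 : (2 : F) ≠ 0) {m : ℕ} (hm : 3 ≤ m) (σ : RingAut F) (r : ℕ)
    (hr : 0 < r) (hσ : σ ^ r = 1) (hinj : ∀ i j, i < r → j < r → σ ^ i = σ ^ j → i = j)
    (g : ↥(Cfsg.Geo.quadSimilarityGroup (F := F) (Cfsg.quadFormOdd m F)))
    (hg : DhO _ g * PhO (fieldCompat_odd m) σ = PhO (fieldCompat_odd m) σ * DhO _ g) :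
    ∃ (b : F) (hb : b ≠ 0), gmapSim (fieldCompat_odd m) σ (scalarSim h2 m b hb * g) =
      scalarSim h2 m b hb * g := by
  obtain ⟨d, h'⟩ := (comm_PhO_iff h2 hm σ g).1 hg
  -- the multiplier `d` has norm one
  have hN : fnorm σ (d : F) r = 1 := by
    have e := map_pow_of_semifixedG σ g.1.val d h' r
    rw [hσ] at e
    have e1 : g.1.val.map (1 : RingAut F) = g.1.val := by
      ext i j
      rfl
    rw [e1] at e
    have e2 : g.1.val * g.1⁻¹.val = (fnorm σ (d : F) r • g.1.val) * g.1⁻¹.val := by rw [← e]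
    rw [Matrix.smul_mul, ← Units.val_mul, mul_inv_cancel, Units.val_one] at e2
    have e3 := congrFun (congrFun e2 (Sum.inl ())) (Sum.inl ())
    rw [Matrix.smul_apply, Matrix.one_apply_eq, smul_eq_mul, mul_one] at e3
    exact e3.symm
  obtain ⟨b, hb0, hb⟩ := hilbert90_field σ r hr hσ hinj d hN
  refine ⟨b, hb0, sim_ext ?_⟩
  have e : (scalarSim h2 m b hb0 * g).1.val = b • g.1.val := by
    show ((scalarSim h2 m b hb0).1 * g.1).val = _
    rw [Units.val_mul, scalarSim_val, Matrix.smul_mul, Matrix.one_mul]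
  rw [gmapSim_val, gmapI_val, e, map_smulG, h', smul_smul, mul_comm, hb]

variable [Fintype F₀]

/-- the homomorphism `GO(F₀) → C_{Inndiag}(PhO σ)` -/
noncomputable def goHom (h2 : (2 : F) ≠ 0) {m : ℕ} (hm : 3 ≤ m) (σ : RingAut F) (ι : F₀ →+* F)
    (hι : ∀ s, σ (ι s) = ι s) :
    ↥(Cfsg.Geo.quadSimilarityGroup (F := F₀) (Cfsg.quadFormOdd m F₀)) →*
      ↥((DhO (Cfsg.quadFormOdd m F)).range ⊓
        Subgroup.centralizer {PhO (fieldCompat_odd (F := F) m) σ}) :=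
  ((DhO (Cfsg.quadFormOdd m F)).comp (mapSim h2 m ι)).codRestrict _ (fun g => by
    refine Subgroup.mem_inf.2 ⟨⟨_, rfl⟩, ?_⟩
    rw [mem_centralizer_singleton]
    show DhO _ (mapSim h2 m ι g) * PhO (fieldCompat_odd m) σ =
      PhO (fieldCompat_odd m) σ * DhO _ (mapSim h2 m ι g)
    rw [comm_PhO_iff h2 hm]
    refine ⟨1, ?_⟩
    rw [Units.val_one, one_smul, mapSim_val]
    ext i j
    exact hι (g.1.val i j))

theorem goHom_val (h2 : (2 : F) ≠ 0) {m : ℕ} (hm : 3 ≤ m) (σ : RingAut F) (ι : F₀ →+* F)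
    (hι : ∀ s, σ (ι s) = ι s)
    (g : ↥(Cfsg.Geo.quadSimilarityGroup (F := F₀) (Cfsg.quadFormOdd m F₀))) :
    ((goHom h2 hm σ ι hι g : ↥((DhO (Cfsg.quadFormOdd m F)).range ⊓
        Subgroup.centralizer {PhO (fieldCompat_odd (F := F) m) σ})) :
      MulAut (Cfsg.POmega F (Cfsg.quadFormOdd m F))) = DhO _ (mapSim h2 m ι g) := rfl

set_option maxHeartbeats 1600000 in
theorem goHom_surjective (h2 : (2 : F) ≠ 0) {m : ℕ} (hm : 3 ≤ m) (σ : RingAut F) (r : ℕ)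
    (hr : 0 < r) (hσ : σ ^ r = 1) (hinj : ∀ i j, i < r → j < r → σ ^ i = σ ^ j → i = j)
    (ι : F₀ →+* F) (hι : ∀ t : F, σ t = t ↔ ∃ s, ι s = t) :
    Function.Surjective (goHom h2 hm σ ι (fun s => (hι (ι s)).2 ⟨s, rfl⟩)) := by
  rintro ⟨c, hc⟩
  obtain ⟨⟨g, rfl⟩, hcent⟩ := Subgroup.mem_inf.1 hc
  rw [mem_centralizer_singleton] at hcent
  obtain ⟨b, hb0, hb⟩ := exists_fixed_rep_O h2 hm σ r hr hσ hinj g hcent
  obtain ⟨g', hg'⟩ : ∃ g', g' = scalarSim h2 m b hb0 * g := ⟨_, rfl⟩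
  rw [← hg'] at hb
  have hentry : ∀ i j, ∃ s, ι s = g'.1.val i j := by
    intro i j
    rw [← hι]
    have h1 : (gmapSim (fieldCompat_odd m) σ g').1.val = g'.1.val := by rw [hb]
    rw [gmapSim_val, gmapI_val] at h1
    have := congrFun (congrFun h1 i) j
    rw [Matrix.map_apply] at this
    exact this
  choose M₀ hM₀ using hentry
  have hmap : (Matrix.of M₀).map ι = g'.1.val := by
    ext i j
    rw [Matrix.map_apply, Matrix.of_apply, hM₀]
  have hmapv : ∀ v : IO m → F₀, g'.1.val *ᵥ (ι ∘ v) = ι ∘ (Matrix.of M₀ *ᵥ v) := by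
    intro v
    rw [← hmap]
    funext i
    exact (RingHom.map_mulVec ι (Matrix.of M₀) v i).symm
  -- the multiplier descends
  obtain ⟨c', hc'⟩ := (mem_sim_iff _ g'.1).1 g'.2
  have hc'1 : (c' : F) = Cfsg.quadFormOdd m F (g'.1.val *ᵥ (ι ∘ (Pi.single (Sum.inl ()) 1))) := by
    rw [hc', compat_odd, quadFormOdd_single_inl, map_one, mul_one]
  obtain ⟨c₀, hc₀⟩ : ∃ c₀ : F₀, ι c₀ = (c' : F) := by
    rw [hc'1, hmapv, compat_odd]
    exact ⟨_, rfl⟩
  have hc₀0 : c₀ ≠ 0 := by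
    rintro rfl
    rw [map_zero] at hc₀
    exact c'.ne_zero hc₀.symm
  have hform : ∀ v, Cfsg.quadFormOdd m F₀ (Matrix.of M₀ *ᵥ v) = c₀ * Cfsg.quadFormOdd m F₀ v := by
    intro v
    apply ι.injective
    rw [← compat_odd, ← hmapv, hc', map_mul, hc₀, compat_odd]
  have hdet : (Matrix.of M₀).det ≠ 0 := by
    intro h0
    have h1 : ι (Matrix.of M₀).det = g'.1.val.det := by
      rw [RingHom.map_det, RingHom.mapMatrix_apply, hmap]
    rw [h0, map_zero] at h1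
    have h2' : IsUnit g'.1.val.det := (Matrix.isUnit_iff_isUnit_det _).1 g'.1.isUnit
    exact h2'.ne_zero h1.symm
  refine ⟨⟨Matrix.GeneralLinearGroup.mkOfDetNeZero (Matrix.of M₀) hdet,
    (mem_sim_iff _ _).2 ⟨Units.mk0 c₀ hc₀0, hform⟩⟩, ?_⟩
  apply Subtype.ext
  rw [goHom_val]
  have e : mapSim h2 m ι ⟨Matrix.GeneralLinearGroup.mkOfDetNeZero (Matrix.of M₀) hdet,
      (mem_sim_iff _ _).2 ⟨Units.mk0 c₀ hc₀0, hform⟩⟩ = g' := by
    apply sim_ext
    rw [mapSim_val]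
    exact hmap
  rw [e, hg', map_mul, DhO_scalarSim, one_mul]

theorem goHom_ker (h2 : (2 : F) ≠ 0) {m : ℕ} (hm : 3 ≤ m) (σ : RingAut F) (ι : F₀ →+* F)
    (hι : ∀ s, σ (ι s) = ι s) :
    (goHom h2 hm σ ι hι).ker = (DhO (Cfsg.quadFormOdd m F₀)).ker := by
  have hQ := isNondeg_quadFormOdd (F := F) m h2
  have h2₀ := two_ne_zero_base ι h2
  have hQ₀ := isNondeg_quadFormOdd (F := F₀) m h2₀
  have hn : 7 ≤ Fintype.card (IO m) := by rw [card_IO]; omega
  ext h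
  rw [MonoidHom.mem_ker, Subtype.ext_iff, goHom_val, MonoidHom.mem_ker]
  show DhO _ (mapSim h2 m ι h) = 1 ↔ _
  rw [DhO_eq_one_iff hQ hn h2, DhO_eq_one_iff hQ₀ hn h2₀, Cfsg.Geo.mem_scalars_iff,
    Cfsg.Geo.mem_scalars_iff, mapSim_val]
  constructor
  · rintro ⟨a, ha⟩
    have hent : ∀ i j, ι (h.1.val i j) = if i = j then (a : F) else 0 := by
      intro i j
      have := congrFun (congrFun ha i) j
      rw [Matrix.map_apply, Matrix.smul_apply, Matrix.one_apply, smul_eq_mul, mul_ite, mul_one,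
        mul_zero] at this
      exact this
    have ha₀ : ι (h.1.val (Sum.inl ()) (Sum.inl ())) = a := by
      rw [hent, if_pos rfl]
    have h0 : h.1.val (Sum.inl ()) (Sum.inl ()) ≠ 0 := by
      intro h0
      rw [h0, map_zero] at ha₀
      exact a.ne_zero ha₀.symm
    refine ⟨Units.mk0 _ h0, ?_⟩
    ext i j
    apply ι.injective
    rw [hent, Units.val_mk0, Matrix.smul_apply, Matrix.one_apply, smul_eq_mul, mul_ite, mul_one,
      mul_zero, apply_ite ι, ha₀, map_zero]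
  · rintro ⟨a₀, ha₀⟩
    refine ⟨Units.map (ι : F₀ →* F) a₀, ?_⟩
    rw [ha₀]
    ext i j
    rw [Matrix.map_apply, Matrix.smul_apply, Matrix.smul_apply, Matrix.one_apply, Matrix.one_apply,
      smul_eq_mul, smul_eq_mul, map_mul, apply_ite ι, map_one, map_zero]
    rfl

/-- **`C_{Inndiag}(PhO σ) ≅ Inndiag(Ω_{2m+1}(F₀))`** -/
theorem nonempty_cent_field_equiv_O (h2 : (2 : F) ≠ 0) {m : ℕ} (hm : 3 ≤ m) (σ : RingAut F)
    (r : ℕ) (hr : 0 < r) (hσ : σ ^ r = 1)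
    (hinj : ∀ i j, i < r → j < r → σ ^ i = σ ^ j → i = j) (ι : F₀ →+* F)
    (hι : ∀ t : F, σ t = t ↔ ∃ s, ι s = t) :
    Nonempty (↥((DhO (Cfsg.quadFormOdd m F)).range ⊓
        Subgroup.centralizer {PhO (fieldCompat_odd (F := F) m) σ}) ≃*
      ↥(Cfsg.inndiagPOmegaOdd m F₀)) := by
  have e1 := QuotientGroup.quotientKerEquivOfSurjective _
    (goHom_surjective h2 hm σ r hr hσ hinj ι hι)
  have e2 := QuotientGroup.quotientMulEquivOfEq
    (goHom_ker h2 hm σ ι (fun s => (hι (ι s)).2 ⟨s, rfl⟩))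
  have e3 := QuotientGroup.quotientKerEquivRange (DhO (Cfsg.quadFormOdd m F₀))
  have e4 : ↥(DhO (Cfsg.quadFormOdd m F₀)).range ≃* ↥(Cfsg.inndiagPOmegaOdd m F₀) :=
    MulEquiv.subgroupCongr (inndiag_odd_eq m).symm
  exact ⟨((e1.symm.trans e2).trans e3).trans e4⟩

end cent

end Cfsg.Agent.Lib.H7AutPO
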