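import Cfsg.Agent.Lib.Helper7.AutPSp.Basic
import Cfsg.Agent.Lib.Helper7.AutPSp.Hilbert90Gen
import Cfsg.Prelude.Def_LieTypeDatum
import Cfsg.Prelude.Def_StandardType
import Mathlib

/-!
# Automorphisms of `PΩ(Q)` induced by similarities and field automorphisms (helper7)

Generic in the quadratic form `Q : (ι → F) → F`: conjugation by similarities (`DhO`), entrywise
field automorphisms (`PhO`, for forms compatible with the field automorphisms), bridges to the
Prelude predicates, and the basic relations.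
-/

set_option autoImplicit false
set_option linter.unusedSectionVars false

namespace Cfsg.Agent.Lib.H7AutPO

open Matrix Cfsg Cfsg.Agent.Lib.H7AutPSp

universe u

/-! ### restriction of automorphisms to the commutator subgroup -/

section comm

variable {G : Type*} [Group G]

theorem map_mem_commutator (e : MulAut G) {x : G} (hx : x ∈ commutator G) :
    e x ∈ commutator G := by
  have h := Subgroup.characteristic_iff_map_eq.1
    (inferInstance : (commutator G).Characteristic) e
  rw [← h]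
  exact Subgroup.mem_map_of_mem _ hx

/-- restriction to the commutator subgroup -/
def commAut : MulAut G →* MulAut ↥(commutator G) where
  toFun e :=
    { toFun := fun x => ⟨e x.1, map_mem_commutator e x.2⟩
      invFun := fun x => ⟨e.symm x.1, map_mem_commutator e.symm x.2⟩
      left_inv := fun x => Subtype.ext (e.symm_apply_apply x.1)
      right_inv := fun x => Subtype.ext (e.apply_symm_apply x.1)
      map_mul' := fun x y => Subtype.ext (map_mul e x.1 y.1) }
  map_one' := by
    ext x : 1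
    rfl
  map_mul' e e' := by
    ext x : 1
    rfl

theorem commAut_val (e : MulAut G) (x : ↥(commutator G)) : (commAut e x).1 = e x.1 := rfl

end comm

variable {ι : Type} [Fintype ι] [DecidableEq ι] {F : Type u} [Field F]

/-! ### membership -/

section generic

variable (Q : (ι → F) → F)

theorem mem_iso_iff (g : GL ι F) :
    g ∈ Cfsg.isometryGroup F Q ↔ ∀ v, Q (g.val *ᵥ v) = Q v :=
  ⟨fun h v => h v v, fun h u _ => h u⟩

theorem mem_sim_iff (g : GL ι F) :
    g ∈ Cfsg.Geo.quadSimilarityGroup (F := F) Q ↔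
      ∃ c : Fˣ, ∀ v, Q (g.val *ᵥ v) = (c : F) * Q v := Iff.rfl

theorem iso_le_sim : Cfsg.isometryGroup F Q ≤ Cfsg.Geo.quadSimilarityGroup (F := F) Q := by
  intro g hg
  exact ⟨1, fun v => by rw [(mem_iso_iff Q g).1 hg, Units.val_one, one_mul]⟩

/-- similarities normalise the isometry group -/
theorem sim_conj_mem (g : GL ι F) (hg : g ∈ Cfsg.Geo.quadSimilarityGroup (F := F) Q)
    (s : GL ι F) (hs : s ∈ Cfsg.isometryGroup F Q) : g * s * g⁻¹ ∈ Cfsg.isometryGroup F Q := by
  rw [mem_iso_iff] at hs ⊢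
  obtain ⟨c, hc⟩ := hg
  intro v
  have h1 : Q ((g * s * g⁻¹).val *ᵥ v) = (c : F) * Q (g⁻¹.val *ᵥ v) := by
    rw [Units.val_mul, Units.val_mul, ← Matrix.mulVec_mulVec, ← Matrix.mulVec_mulVec, hc, hs]
  have h2 : Q v = (c : F) * Q (g⁻¹.val *ᵥ v) := by
    rw [← hc, Matrix.mulVec_mulVec, ← Units.val_mul, mul_inv_cancel, Units.val_one,
      Matrix.one_mulVec]
  rw [h1, ← h2]

/-- conjugation by a similarity, on the isometry group -/
def conjIso : ↥(Cfsg.Geo.quadSimilarityGroup (F := F) Q) →* MulAut ↥(Cfsg.isometryGroup F Q) where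
  toFun g :=
    { toFun := fun s => ⟨g.1 * s.1 * g.1⁻¹, sim_conj_mem Q g.1 g.2 s.1 s.2⟩
      invFun := fun s => ⟨g.1⁻¹ * s.1 * g.1⁻¹⁻¹,
        sim_conj_mem Q g.1⁻¹ (Subgroup.inv_mem _ g.2) s.1 s.2⟩
      left_inv := fun s => by
        apply Subtype.ext
        show g.1⁻¹ * (g.1 * s.1 * g.1⁻¹) * g.1⁻¹⁻¹ = s.1
        group
      right_inv := fun s => by
        apply Subtype.ext
        show g.1 * (g.1⁻¹ * s.1 * g.1⁻¹⁻¹) * g.1⁻¹ = s.1
        group
      map_mul' := fun s t => by
        apply Subtype.ext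
        show g.1 * (s.1 * t.1) * g.1⁻¹ = (g.1 * s.1 * g.1⁻¹) * (g.1 * t.1 * g.1⁻¹)
        group }
  map_one' := by
    ext s : 1
    apply Subtype.ext
    show (1 : GL ι F) * s.1 * (1 : GL ι F)⁻¹ = s.1
    group
  map_mul' g h := by
    ext s : 1
    apply Subtype.ext
    show (g.1 * h.1) * s.1 * (g.1 * h.1)⁻¹ = g.1 * (h.1 * s.1 * h.1⁻¹) * g.1⁻¹
    group

theorem conjIso_val (g : ↥(Cfsg.Geo.quadSimilarityGroup (F := F) Q))
    (s : ↥(Cfsg.isometryGroup F Q)) : (conjIso Q g s).1 = g.1 * s.1 * g.1⁻¹ := rfl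

/-! ### field automorphisms -/

/-- compatibility of `Q` with the field automorphisms -/
def FieldCompat : Prop := ∀ (σ : RingAut F) (v : ι → F), Q (fun i => σ (v i)) = σ (Q v)

/-- entrywise action on `GL` -/
def gmapI (σ : RingAut F) : GL ι F →* GL ι F := Matrix.GeneralLinearGroup.map (σ : F →+* F)

theorem gmapI_val (σ : RingAut F) (g : GL ι F) : (gmapI σ g).val = g.val.map σ := rfl

theorem gmapI_one (g : GL ι F) : gmapI (1 : RingAut F) g = g := by
  apply Units.ext
  rw [gmapI_val]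
  ext i j
  rfl

theorem gmapI_mul (σ τ : RingAut F) (g : GL ι F) : gmapI (σ * τ) g = gmapI σ (gmapI τ g) := by
  apply Units.ext
  rw [gmapI_val, gmapI_val, gmapI_val]
  ext i j
  rfl

theorem map_mulVec_symmI (σ : RingAut F) (M : Matrix ι ι F) (u : ι → F) :
    M.map σ *ᵥ u = fun i => σ ((M *ᵥ (fun j => σ.symm (u j))) i) := by
  rw [map_mulVecG]
  congr 1
  ext j
  exact (σ.apply_symm_apply (u j)).symm

variable {Q}

theorem gmapI_mem_iso (hc : FieldCompat Q) (σ : RingAut F) (s : GL ι F)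
    (hs : s ∈ Cfsg.isometryGroup F Q) : gmapI σ s ∈ Cfsg.isometryGroup F Q := by
  rw [mem_iso_iff] at hs ⊢
  intro v
  rw [gmapI_val, map_mulVec_symmI, hc σ, hs, ← hc σ]
  congr 1
  ext j
  exact σ.apply_symm_apply (v j)

theorem gmapI_mem_sim (hc : FieldCompat Q) (σ : RingAut F) (g : GL ι F)
    (hg : g ∈ Cfsg.Geo.quadSimilarityGroup (F := F) Q) :
    gmapI σ g ∈ Cfsg.Geo.quadSimilarityGroup (F := F) Q := by
  obtain ⟨c, hcg⟩ := hg
  refine ⟨Units.map (σ : F →+* F).toMonoidHom c, fun v => ?_⟩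
  rw [gmapI_val, map_mulVec_symmI, hc σ, hcg, map_mul, ← hc σ]
  congr 2
  ext j
  exact σ.apply_symm_apply (v j)

/-- the field automorphisms on the isometry group -/
def fieldIso (hc : FieldCompat Q) : RingAut F →* MulAut ↥(Cfsg.isometryGroup F Q) where
  toFun σ :=
    { toFun := fun s => ⟨gmapI σ s.1, gmapI_mem_iso hc σ s.1 s.2⟩
      invFun := fun s => ⟨gmapI σ⁻¹ s.1, gmapI_mem_iso hc σ⁻¹ s.1 s.2⟩
      left_inv := fun s => by
        apply Subtype.ext
        show gmapI σ⁻¹ (gmapI σ s.1) = s.1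
        rw [← gmapI_mul, inv_mul_cancel, gmapI_one]
      right_inv := fun s => by
        apply Subtype.ext
        show gmapI σ (gmapI σ⁻¹ s.1) = s.1
        rw [← gmapI_mul, mul_inv_cancel, gmapI_one]
      map_mul' := fun s t => by
        apply Subtype.ext
        exact map_mul (gmapI σ) s.1 t.1 }
  map_one' := by
    ext s : 1
    apply Subtype.ext
    exact gmapI_one s.1
  map_mul' σ τ := by
    ext s : 1
    apply Subtype.ext
    exact gmapI_mul σ τ s.1

theorem fieldIso_val (hc : FieldCompat Q) (σ : RingAut F) (s : ↥(Cfsg.isometryGroup F Q)) :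
    (fieldIso hc σ s).1 = gmapI σ s.1 := rfl

/-- entrywise action on the similarity group -/
def gmapSim (hc : FieldCompat Q) (σ : RingAut F) :
    ↥(Cfsg.Geo.quadSimilarityGroup (F := F) Q) →* ↥(Cfsg.Geo.quadSimilarityGroup (F := F) Q) :=
  ((gmapI σ).comp (Cfsg.Geo.quadSimilarityGroup (F := F) Q).subtype).codRestrict _
    (fun g => gmapI_mem_sim hc σ g.1 g.2)

theorem gmapSim_val (hc : FieldCompat Q) (σ : RingAut F)
    (g : ↥(Cfsg.Geo.quadSimilarityGroup (F := F) Q)) : (gmapSim hc σ g).1 = gmapI σ g.1 := rfl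

theorem field_conj_iso (hc : FieldCompat Q) (σ : RingAut F)
    (g : ↥(Cfsg.Geo.quadSimilarityGroup (F := F) Q)) :
    fieldIso hc σ * conjIso Q g = conjIso Q (gmapSim hc σ g) * fieldIso hc σ := by
  ext s : 1
  apply Subtype.ext
  show gmapI σ (g.1 * s.1 * g.1⁻¹) = gmapI σ g.1 * gmapI σ s.1 * (gmapI σ g.1)⁻¹
  rw [map_mul, map_mul, map_inv]

/-! ### the induced automorphisms of `PΩ(Q)` -/

variable (Q)

/-- similarity-induced automorphisms of `PΩ(Q)` -/
noncomputable def DhO :
    ↥(Cfsg.Geo.quadSimilarityGroup (F := F) Q) →* MulAut (Cfsg.POmega F Q) :=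
  liftC.comp (commAut.comp (conjIso Q))

variable {Q}

/-- standard field automorphisms of `PΩ(Q)` -/
noncomputable def PhO (hc : FieldCompat Q) : RingAut F →* MulAut (Cfsg.POmega F Q) :=
  liftC.comp (commAut.comp (fieldIso hc))

theorem DhO_pr (g : ↥(Cfsg.Geo.quadSimilarityGroup (F := F) Q)) (s : ↥(Cfsg.Omega F Q)) :
    DhO Q g (prC s) = prC (commAut (conjIso Q g) s) := rfl

theorem PhO_pr (hc : FieldCompat Q) (σ : RingAut F) (s : ↥(Cfsg.Omega F Q)) :
    PhO hc σ (prC s) = prC (commAut (fieldIso hc σ) s) := rfl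

theorem PhO_DhO (hc : FieldCompat Q) (σ : RingAut F)
    (g : ↥(Cfsg.Geo.quadSimilarityGroup (F := F) Q)) :
    PhO hc σ * DhO Q g = DhO Q (gmapSim hc σ g) * PhO hc σ := by
  unfold PhO DhO
  rw [MonoidHom.comp_apply, MonoidHom.comp_apply, MonoidHom.comp_apply, MonoidHom.comp_apply,
    MonoidHom.comp_apply, MonoidHom.comp_apply, ← map_mul, ← map_mul, ← map_mul, ← map_mul,
    field_conj_iso]

theorem om_ext {s t : ↥(Cfsg.Omega F Q)} (h : s.1.1.val = t.1.1.val) : s = t :=
  Subtype.ext (Subtype.ext (Units.ext h))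

theorem DhO_val (g : ↥(Cfsg.Geo.quadSimilarityGroup (F := F) Q)) (s : ↥(Cfsg.Omega F Q)) :
    (commAut (conjIso Q g) s).1.1.val = g.1.val * s.1.1.val * g.1⁻¹.val := by
  rw [commAut_val, conjIso_val, Units.val_mul, Units.val_mul]

theorem PhO_val (hc : FieldCompat Q) (σ : RingAut F) (s : ↥(Cfsg.Omega F Q)) :
    (commAut (fieldIso hc σ) s).1.1.val = s.1.1.val.map σ := by
  rw [commAut_val, fieldIso_val, gmapI_val]

/-- the automorphism induced by the semilinear map `v ↦ g σ(v)` -/
theorem semilinearO_iff (hc : FieldCompat Q) (g : ↥(Cfsg.Geo.quadSimilarityGroup (F := F) Q))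
    (σ : RingAut F) (β : MulAut (Cfsg.POmega F Q)) :
    Cfsg.IsInducedBySemilinearPOmega Q g.1 σ β ↔ β = DhO Q g * PhO hc σ := by
  constructor
  · intro h
    apply autC_ext
    intro s
    rw [MulAut.mul_apply, PhO_pr, DhO_pr]
    refine h s _ ?_
    rw [DhO_val, PhO_val]
  · rintro rfl s s' hs'
    have e : s' = commAut (conjIso Q g) (commAut (fieldIso hc σ) s) := by
      apply om_ext
      rw [DhO_val, PhO_val]
      exact hs'
    rw [e]
    rfl

theorem similarityO_iff (β : MulAut (Cfsg.POmega F Q)) :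
    Cfsg.IsSimilarityInducedAutPOmega Q β ↔ ∃ g, β = DhO Q g := by
  constructor
  · rintro ⟨g, hg, h⟩
    refine ⟨⟨g, hg⟩, ?_⟩
    apply autC_ext
    intro s
    rw [DhO_pr]
    refine h s _ ?_
    rw [DhO_val]
    rfl
  · rintro ⟨g, rfl⟩
    refine ⟨g.1, g.2, ?_⟩
    intro s s' hs'
    have e : s' = commAut (conjIso Q g) s := by
      apply om_ext
      rw [DhO_val, hs']
      rfl
    rw [e]
    rfl

theorem fieldO_iff (hc : FieldCompat Q) (σ : RingAut F) (β : MulAut (Cfsg.POmega F Q)) :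
    Cfsg.IsFieldAutPOmegaOf Q σ β ↔ β = PhO hc σ := by
  constructor
  · intro h
    apply autC_ext
    intro s
    rw [PhO_pr]
    refine h s _ ?_
    rw [PhO_val]
  · rintro rfl s s' hs'
    have e : s' = commAut (fieldIso hc σ) s := by
      apply om_ext
      rw [PhO_val]
      exact hs'
    rw [e]
    rfl

/-- the image of the conformal orthogonal group -/
theorem pgoAut_eq : Cfsg.pgoAut F Q = (DhO Q).range := by
  unfold Cfsg.pgoAut Cfsg.autSubgroupOf
  apply le_antisymm
  · rw [Subgroup.closure_le]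
    intro β hβ
    obtain ⟨g, hg⟩ := (similarityO_iff β).1 hβ
    exact ⟨g, hg.symm⟩
  · rintro _ ⟨g, rfl⟩
    exact Subgroup.subset_closure ((similarityO_iff _).2 ⟨g, rfl⟩)

end generic

end Cfsg.Agent.Lib.H7AutPO
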