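import Cfsg.Agent.Lib.Helper7.AutPO.Basic
import Cfsg.Agent.Lib.Helper5.OrthAut.Kernel
import Mathlib

/-!
# `DhO` versus helper5's `conjHom`; the kernel of `DhO` (helper7)
-/

set_option autoImplicit false
set_option linter.unusedSectionVars false

namespace Cfsg.Agent.Lib.H7AutPO

open Matrix Cfsg Cfsg.Agent.Lib.H7AutPSp Cfsg.Agent.Lib.Helper5.OrthAut Cfsg.Agent.H9.Orth

universe u

variable {ι : Type} [Fintype ι] [DecidableEq ι] {F : Type u} [Field F]
variable {Q : (ι → F) → F}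

theorem DhO_eq_conjHom : DhO Q = conjHom Q := by
  ext g : 1
  apply autC_ext
  intro s
  rw [DhO_pr, conjHom_apply]
  show _ = conjT g.1 g.2 (QuotientGroup.mk s)
  rw [conjT_mk]
  rfl

section kernel

variable [Fintype F] (hQ : Cfsg.Geo.IsNondegenerateQuadraticForm Q)
include hQ

/-- the kernel of `DhO`: the scalar similarities -/
theorem DhO_eq_one_iff (hn : 7 ≤ Fintype.card ι) (h2 : (2 : F) ≠ 0)
    (g : ↥(Cfsg.Geo.quadSimilarityGroup (F := F) Q)) :
    DhO Q g = 1 ↔ g.1 ∈ Cfsg.Geo.scalars ι F := by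
  rw [DhO_eq_conjHom, conjHom_apply, Cfsg.Geo.mem_scalars_iff]
  constructor
  · intro h
    obtain ⟨l, hl⟩ := scalar_of_conjT_eq_one hQ hn h2 g.1 g.2 h
    have hval : g.1.val = l • (1 : Matrix ι ι F) := by
      apply Matrix.mulVec_injective
      funext x
      rw [Matrix.smul_mulVec, Matrix.one_mulVec]
      exact hl x
    have hl0 : l ≠ 0 := by
      rintro rfl
      rw [zero_smul] at hval
      have h1 : g.1.val * g.1⁻¹.val = 1 := by
        rw [← Units.val_mul, mul_inv_cancel, Units.val_one]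
      rw [hval, Matrix.zero_mul] at h1
      have hne : Nonempty ι := by
        rw [← Fintype.card_pos_iff]; omega
      obtain ⟨i⟩ := hne
      have := congrFun (congrFun h1 i) i
      rw [Matrix.zero_apply, Matrix.one_apply_eq] at this
      exact zero_ne_one this
    exact ⟨Units.mk0 l hl0, hval⟩
  · rintro ⟨c, hc⟩
    apply conjT_eq_one_of_scalar g.1 g.2 (c : F)
    intro x
    show g.1.val *ᵥ x = _
    rw [hc, Matrix.smul_mulVec, Matrix.one_mulVec]

theorem DhO_eq_iff (hn : 7 ≤ Fintype.card ι) (h2 : (2 : F) ≠ 0)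
    (g g' : ↥(Cfsg.Geo.quadSimilarityGroup (F := F) Q)) :
    DhO Q g = DhO Q g' ↔ ∃ c : Fˣ, g.1.val = (c : F) • g'.1.val := by
  have h1 : DhO Q g = DhO Q g' ↔ DhO Q (g * g'⁻¹) = 1 := by
    rw [map_mul, map_inv, mul_inv_eq_one]
  rw [h1, DhO_eq_one_iff hQ hn h2, Cfsg.Geo.mem_scalars_iff]
  have h3 : g'.1⁻¹.val * g'.1.val = 1 := by
    rw [← Units.val_mul, inv_mul_cancel, Units.val_one]
  constructor
  · rintro ⟨c, hc⟩
    refine ⟨c, ?_⟩
    have h2' : (g * g'⁻¹).1.val = g.1.val * g'.1⁻¹.val := rfl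
    rw [h2'] at hc
    calc g.1.val = g.1.val * g'.1⁻¹.val * g'.1.val := by
          rw [Matrix.mul_assoc, h3, Matrix.mul_one]
      _ = (c : F) • g'.1.val := by rw [hc, Matrix.smul_mul, Matrix.one_mul]
  · rintro ⟨c, hc⟩
    refine ⟨c, ?_⟩
    have h2' : (g * g'⁻¹).1.val = g.1.val * g'.1⁻¹.val := rfl
    have h4 : g'.1.val * g'.1⁻¹.val = 1 := by
      rw [← Units.val_mul, mul_inv_cancel, Units.val_one]
    rw [h2', hc, Matrix.smul_mul, h4]

end kernel

end Cfsg.Agent.Lib.H7AutPO
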