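import Cfsg.Agent.Lib.Helper7.AutPO.OddSpec
import Cfsg.Agent.Lib.Lead.AutPSLCountC
import Cfsg.Agent.S0286
import Cfsg.Agent.S0292
import Cfsg.Agent.S2602
import Cfsg.Agent.S2690
import Mathlib

/-!
# `|Aut(Ω_{2m+1}(q))|`, conditional on the factorisation (helper7)
-/

set_option autoImplicit false
set_option linter.unusedSectionVars false

namespace Cfsg.Agent.Lib.H7AutPO

open Matrix Cfsg Cfsg.Agent.Lib.H7AutPSp Cfsg.Agent.Lib.Helper5.OrthAut Cfsg.Agent.H9.Orth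
  Cfsg.Agent.Lib.Helper5.OrthSN Cfsg.Agent.Lib.Helper5.OrthCls

universe u

variable {F : Type u} [Field F] [Fintype F]

/-- `DhO` restricted to the isometry group -/
noncomputable def isoHom (m : ℕ) :
    ↥(Cfsg.isometryGroup F (Cfsg.quadFormOdd m F)) →* MulAut (Cfsg.POmega F (Cfsg.quadFormOdd m F)) :=
  (DhO (Cfsg.quadFormOdd m F)).comp (Subgroup.inclusion (iso_le_sim (Cfsg.quadFormOdd m F)))

theorem isoHom_apply (m : ℕ) (g : ↥(Cfsg.isometryGroup F (Cfsg.quadFormOdd m F))) :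
    isoHom m g = DhO (Cfsg.quadFormOdd m F) ⟨g.1, iso_le_sim _ g.2⟩ := rfl

theorem DhO_scalarGL (h2 : (2 : F) ≠ 0) (m : ℕ) (l : F) (hl : l ≠ 0) :
    DhO (Cfsg.quadFormOdd m F)
      ⟨scalarGL l hl, scalarGL_mem_GO (isNondeg_quadFormOdd (F := F) m h2) l hl⟩ = 1 := by
  rw [DhO_eq_conjHom, conjHom_apply]
  exact conjT_eq_one_of_scalar _ _ l (fun x => act_scalarGL l hl x)

/-- every inner-diagonal automorphism comes from an isometry -/
theorem exists_iso_of_sim (h2 : (2 : F) ≠ 0) (m : ℕ)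
    (g : ↥(Cfsg.Geo.quadSimilarityGroup (F := F) (Cfsg.quadFormOdd m F))) :
    ∃ g' : ↥(Cfsg.isometryGroup F (Cfsg.quadFormOdd m F)),
      DhO (Cfsg.quadFormOdd m F) g = isoHom m g' := by
  obtain ⟨l, hl0, g', hg', e⟩ := sim_eq_scalar_mul_iso_odd h2 m g
  refine ⟨⟨g', hg'⟩, ?_⟩
  have hQ := isNondeg_quadFormOdd (F := F) m h2
  have e2 : g = (⟨scalarGL l hl0, scalarGL_mem_GO hQ l hl0⟩ :
      ↥(Cfsg.Geo.quadSimilarityGroup (F := F) (Cfsg.quadFormOdd m F))) *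
      ⟨g', iso_le_sim _ hg'⟩ := Subtype.ext e
  rw [e2, map_mul, DhO_scalarGL h2, one_mul]
  rfl

theorem isoHom_range (h2 : (2 : F) ≠ 0) (m : ℕ) :
    (isoHom (F := F) m).range = (DhO (Cfsg.quadFormOdd m F)).range := by
  apply le_antisymm
  · rintro _ ⟨g, rfl⟩
    exact ⟨_, rfl⟩
  · rintro _ ⟨g, rfl⟩
    obtain ⟨g', hg'⟩ := exists_iso_of_sim h2 m g
    exact ⟨g', hg'.symm⟩

theorem neg_one_mem_iso (m : ℕ) :
    (-1 : GL (IO m) F) ∈ Cfsg.isometryGroup F (Cfsg.quadFormOdd m F) := by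
  rw [mem_iso_iff]
  intro v
  rw [Units.val_neg, Units.val_one, Matrix.neg_mulVec, Matrix.one_mulVec]
  unfold Cfsg.quadFormOdd
  simp

theorem card_ker_isoHom (h2 : (2 : F) ≠ 0) {m : ℕ} (hm : 3 ≤ m) :
    Nat.card (isoHom (F := F) m).ker = 2 := by
  have hQ := isNondeg_quadFormOdd (F := F) m h2
  have hn : 7 ≤ Fintype.card (IO m) := by rw [card_IO]; omega
  have hmem : (⟨-1, neg_one_mem_iso m⟩ : ↥(Cfsg.isometryGroup F (Cfsg.quadFormOdd m F))) ∈
      (isoHom (F := F) m).ker := by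
    rw [MonoidHom.mem_ker, isoHom_apply, DhO_eq_conjHom, conjHom_apply]
    apply conjT_eq_one_of_scalar _ _ (-1 : F)
    intro x
    show (-1 : GL (IO m) F).val *ᵥ x = _
    rw [Units.val_neg, Units.val_one, Matrix.neg_mulVec, Matrix.one_mulVec, neg_one_smul]
  rw [Nat.card_eq_two_iff]
  refine ⟨1, ⟨_, hmem⟩, ?_, ?_⟩
  · intro h
    have h3 := congrArg (fun x : ↥(isoHom (F := F) m).ker => x.1.1.val (Sum.inl ()) (Sum.inl ())) h
    simp only [OneMemClass.coe_one, Units.val_one, Units.val_neg, Matrix.neg_apply,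
      Matrix.one_apply_eq] at h3
    apply h2
    linear_combination h3
  · rw [Set.eq_univ_iff_forall]
    rintro ⟨g, hg⟩
    rw [MonoidHom.mem_ker, isoHom_apply, DhO_eq_conjHom, conjHom_apply] at hg
    rcases pm_one_of_conjT_eq_one hQ hn h2 g.1 g.2 hg with h | h
    · left
      exact Subtype.ext (Subtype.ext h)
    · right
      exact Subtype.ext (Subtype.ext h)

/-- `|Inndiag(Ω_{2m+1}(q))| = |O_{2m+1}(q)| / 2` -/
theorem card_DhO_range (h2 : (2 : F) ≠ 0) {m : ℕ} (hm : 3 ≤ m) :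
    2 * Nat.card (DhO (Cfsg.quadFormOdd m F)).range =
      Nat.card ↥(Cfsg.isometryGroup F (Cfsg.quadFormOdd m F)) := by
  rw [← isoHom_range h2 m]
  have h1 := Subgroup.card_mul_index (isoHom (F := F) m).ker
  rw [Subgroup.index_ker, card_ker_isoHom h2 hm] at h1
  exact h1

/-- **`|Aut(Ω_{2m+1}(q))| = 2 f |Ω_{2m+1}(q)|`**, given the factorisation -/
theorem card_aut_odd (p f : ℕ) [Fact p.Prime] (hF : Fintype.card F = p ^ f) (hodd : Odd p)
    {m : ℕ} (hm : 3 ≤ m) (hfac : FacO (Cfsg.quadFormOdd m F)) :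
    Nat.card (MulAut (Cfsg.POmega F (Cfsg.quadFormOdd m F))) =
      2 * f * Nat.card (Cfsg.POmega F (Cfsg.quadFormOdd m F)) := by
  have hoddq : Odd (p ^ f) := hodd.pow
  have h2 : (2 : F) ≠ 0 := two_ne_zero_of_odd_card (by rw [hF]; exact hoddq)
  have hc := fieldCompat_odd (F := F) m
  have hD := DhO_range_normal hc hfac
  have hchar := Cfsg.Agent.S2690.charP_of_card_pow p f hF
  have hcard := (Cfsg.Agent.S2602.ringAut_cyclic (F := F) p f hF).2
  have h1 := Cfsg.Agent.AutPSLCount.split_card (DhO (Cfsg.quadFormOdd m F)).range (PhO hc)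
    (by
      intro β
      obtain ⟨g, σ, -, rfl⟩ := fac_decomp hc hfac β
      exact ⟨DhO _ g, ⟨g, rfl⟩, σ, rfl⟩)
    (fun σ hσ => eq_one_of_PhO_mem_range_odd h2 hm σ hσ)
  have h3 := card_DhO_range (F := F) h2 hm
  have h4 := Cfsg.Agent.S0286.result (F := F) hF hoddq m
  have h5 := Cfsg.Agent.S0292.result (F := F) hF hoddq m hm
  rw [h1, hcard]
  have h6 : Nat.card (DhO (Cfsg.quadFormOdd m F)).range =
      2 * Nat.card (Cfsg.POmega F (Cfsg.quadFormOdd m F)) := by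
    rw [h4] at h3
    rw [h5]
    have : 2 * Nat.card (DhO (Cfsg.quadFormOdd m F)).range =
        2 * (p ^ f) ^ (m ^ 2) * ∏ i ∈ Finset.range m, ((p ^ f) ^ (2 * (i + 1)) - 1) := h3
    rw [mul_assoc] at this
    exact Nat.eq_of_mul_eq_mul_left (by norm_num) this
  rw [h6]
  ring

end Cfsg.Agent.Lib.H7AutPO
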