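import Cfsg.Agent.Lib.Helper7.AutPO.HilbertO
import Cfsg.Agent.Lib.Helper7.AutPO.CountO
import Cfsg.Agent.Lib.Helper7.AutPSp.CosetFieldSp
import Cfsg.Agent.Lib.Helper7.AutPSL.CosetConj
import Mathlib

/-!
# Elements of prime order in a field coset of `Inndiag(Ω_{2m+1}(F))` (helper7)
-/

set_option autoImplicit false
set_option linter.unusedSectionVars false

namespace Cfsg.Agent.Lib.H7AutPO

open Matrix Cfsg Cfsg.Agent.Lib.H7AutPSp Cfsg.Agent.Lib.H7AutPSL Cfsg.Agent.H9.Orth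
  Cfsg.Agent.Lib.Helper5.OrthAut

universe u

section generic

variable {ι : Type} [Fintype ι] [DecidableEq ι] {F : Type u} [Field F] {Q : (ι → F) → F}

/-- the partial norms in the similarity group -/
noncomputable def gnormO (hc : FieldCompat Q) (σ : RingAut F)
    (g : ↥(Cfsg.Geo.quadSimilarityGroup (F := F) Q)) :
    ℕ → ↥(Cfsg.Geo.quadSimilarityGroup (F := F) Q)
  | 0 => 1
  | k + 1 => g * gmapSim hc σ (gnormO hc σ g k)

theorem gnormO_val (hc : FieldCompat Q) (σ : RingAut F)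
    (g : ↥(Cfsg.Geo.quadSimilarityGroup (F := F) Q)) (k : ℕ) :
    (gnormO hc σ g k).1.val = pnormG σ g.1.val k := by
  induction k with
  | zero => rfl
  | succ k ih =>
    show (g.1 * (gmapSim hc σ (gnormO hc σ g k)).1).val = g.1.val * (pnormG σ g.1.val k).map σ
    rw [Units.val_mul, gmapSim_val, gmapI_val, ih]

/-- powers of an element of a field coset -/
theorem coset_pow_O (hc : FieldCompat Q) (σ : RingAut F)
    (g : ↥(Cfsg.Geo.quadSimilarityGroup (F := F) Q)) (k : ℕ) :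
    (DhO Q g * PhO hc σ) ^ k = DhO Q (gnormO hc σ g k) * PhO hc (σ ^ k) := by
  induction k with
  | zero =>
    show _ = DhO Q (1 : ↥(Cfsg.Geo.quadSimilarityGroup (F := F) Q)) * PhO hc (σ ^ 0)
    rw [pow_zero, pow_zero, map_one, map_one, mul_one]
  | succ k ih =>
    show _ = DhO Q (g * gmapSim hc σ (gnormO hc σ g k)) * PhO hc (σ ^ (k + 1))
    rw [pow_succ', ih, map_mul, pow_succ', map_mul]
    calc DhO Q g * PhO hc σ * (DhO Q (gnormO hc σ g k) * PhO hc (σ ^ k))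
        = DhO Q g * (PhO hc σ * DhO Q (gnormO hc σ g k)) * PhO hc (σ ^ k) := by
          simp only [mul_assoc]
      _ = _ := by rw [PhO_DhO]; simp only [mul_assoc]

theorem sim_ext {g h : ↥(Cfsg.Geo.quadSimilarityGroup (F := F) Q)} (e : g.1.val = h.1.val) :
    g = h := Subtype.ext (Units.ext e)

end generic

variable {F : Type u} [Field F] [Fintype F]

/-- the scalar similarities -/
noncomputable def scalarSim (h2 : (2 : F) ≠ 0) (m : ℕ) (l : F) (hl : l ≠ 0) :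
    ↥(Cfsg.Geo.quadSimilarityGroup (F := F) (Cfsg.quadFormOdd m F)) :=
  ⟨scalarGL l hl, scalarGL_mem_GO (isNondeg_quadFormOdd (F := F) m h2) l hl⟩

theorem scalarSim_val (h2 : (2 : F) ≠ 0) (m : ℕ) (l : F) (hl : l ≠ 0) :
    (scalarSim h2 m l hl).1.val = l • (1 : Matrix (IO m) (IO m) F) := rfl

theorem DhO_scalarSim (h2 : (2 : F) ≠ 0) (m : ℕ) (l : F) (hl : l ≠ 0) :
    DhO (Cfsg.quadFormOdd m F) (scalarSim h2 m l hl) = 1 := DhO_scalarGL h2 m l hl

/-- **Elements of order `r` in the coset of a field automorphism of prime order `r`.** -/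
theorem field_coset_conj_O (h2 : (2 : F) ≠ 0) {m : ℕ} (hm : 3 ≤ m) (σ : RingAut F) (r : ℕ)
    (hr : r.Prime) (hσ : orderOf σ = r)
    (g : ↥(Cfsg.Geo.quadSimilarityGroup (F := F) (Cfsg.quadFormOdd m F)))
    (hy : (DhO (Cfsg.quadFormOdd m F) g * PhO (fieldCompat_odd m) σ) ^ r = 1) :
    ∃ h : ↥(Cfsg.Geo.quadSimilarityGroup (F := F) (Cfsg.quadFormOdd m F)),
      DhO (Cfsg.quadFormOdd m F) g * PhO (fieldCompat_odd m) σ =
        DhO (Cfsg.quadFormOdd m F) h * PhO (fieldCompat_odd m) σ *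
          (DhO (Cfsg.quadFormOdd m F) h)⁻¹ := by
  have hQ := isNondeg_quadFormOdd (F := F) m h2
  have hn : 7 ≤ Fintype.card (IO m) := by rw [card_IO]; omega
  have hc := fieldCompat_odd (F := F) m
  have hσr : σ ^ r = 1 := by rw [← hσ]; exact pow_orderOf_eq_one σ
  have hinj : ∀ i j, i < r → j < r → σ ^ i = σ ^ j → i = j := by
    intro i j hi hj hij
    rw [← hσ] at hi hj
    exact pow_injOn_Iio_orderOf (Set.mem_Iio.2 hi) (Set.mem_Iio.2 hj) hij
  -- the norm of `g` is a scalar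
  rw [coset_pow_O, hσr, map_one, mul_one, DhO_eq_one_iff hQ hn h2,
    Cfsg.Geo.mem_scalars_iff] at hy
  obtain ⟨c, hcs⟩ := hy
  rw [gnormO_val] at hcs
  obtain ⟨M, hM⟩ : ∃ M, M = g.1.val := ⟨_, rfl⟩
  rw [← hM] at hcs
  have hMM : M * g.1⁻¹.val = 1 := by
    rw [hM, ← Units.val_mul, mul_inv_cancel, Units.val_one]
  -- the scalar is fixed by `σ`
  have hfix : σ (c : F) = c := by
    have e1 : pnormG σ M (r + 1) = M * (pnormG σ M r).map σ := rfl
    have e2 := pnormG_succ' σ M r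
    rw [hσr, e1, hcs, map_smulG] at e2
    have h1 : (1 : Matrix (IO m) (IO m) F).map σ = 1 := by
      ext i j
      rw [Matrix.map_apply, Matrix.one_apply]
      split_ifs
      · exact map_one σ
      · exact map_zero σ
    have h2' : M.map (1 : RingAut F) = M := by
      ext i j
      rfl
    rw [h1, h2', Matrix.mul_smul, Matrix.mul_one, Matrix.smul_mul, Matrix.one_mul] at e2
    have e3 : (σ (c : F) • M) * g.1⁻¹.val = ((c : F) • M) * g.1⁻¹.val := by rw [e2]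
    rw [Matrix.smul_mul, Matrix.smul_mul, hMM] at e3
    have e4 := congrFun (congrFun e3 (Sum.inl ())) (Sum.inl ())
    rw [Matrix.smul_apply, Matrix.smul_apply, Matrix.one_apply_eq, smul_eq_mul, smul_eq_mul,
      mul_one, mul_one] at e4
    exact e4
  obtain ⟨μ, hμ0, hμ⟩ := norm_surj σ r hr.pos hσr hinj c c.ne_zero hfix
  -- normalise `g`
  have hN : pnormG σ (μ⁻¹ • M) r = 1 := by
    rw [pnormG_smul, hcs, fnorm_inv, hμ, smul_smul, inv_mul_cancel₀ c.ne_zero, one_smul]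
  obtain ⟨cg, hcg⟩ := (mem_sim_iff _ g.1).1 g.2
  rw [← hM] at hcg
  have hgram := gram_of_sim hQ M (cg : F) hcg
  have hg' : (μ⁻¹ • M)ᵀ * gram (Cfsg.quadFormOdd m F) * (μ⁻¹ • M) =
      (μ⁻¹ * μ⁻¹ * (cg : F)) • gram (Cfsg.quadFormOdd m F) := by
    rw [Matrix.transpose_smul, Matrix.smul_mul, Matrix.smul_mul, Matrix.mul_smul, hgram, smul_smul,
      smul_smul]
  obtain ⟨P, hPu, hP, ν, hν0, hPG⟩ := o_hilbert90 m h2 σ r hr.pos hσr hinj (μ⁻¹ • M)
    (μ⁻¹ * μ⁻¹ * (cg : F))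
    (mul_ne_zero (mul_ne_zero (inv_ne_zero hμ0) (inv_ne_zero hμ0)) cg.ne_zero) hg' hN
  obtain ⟨h, hh⟩ : ∃ h : ↥(Cfsg.Geo.quadSimilarityGroup (F := F) (Cfsg.quadFormOdd m F)),
      h.1.val = P :=
    ⟨⟨hPu.unit, (mem_sim_iff _ _).2 ⟨Units.mk0 ν hν0, by
      intro v
      rw [IsUnit.unit_spec, Units.val_mk0]
      exact sim_of_gram hQ h2 P ν hPG v⟩⟩, IsUnit.unit_spec hPu⟩
  refine ⟨h, ?_⟩
  -- `g σ(h) = μ h`
  have e1 : g * gmapSim hc σ h = scalarSim h2 m μ hμ0 * h := by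
    apply sim_ext
    show (g.1 * (gmapSim hc σ h).1).val = ((scalarSim h2 m μ hμ0).1 * h.1).val
    rw [Units.val_mul, Units.val_mul, gmapSim_val, gmapI_val, scalarSim_val, hh, ← hM,
      Matrix.smul_mul, Matrix.one_mul]
    rw [Matrix.smul_mul] at hP
    conv_rhs => rw [← hP]
    rw [smul_smul, mul_inv_cancel₀ hμ0, one_smul]
  have e2 : DhO _ g * DhO _ (gmapSim hc σ h) = DhO (Cfsg.quadFormOdd m F) h := by
    rw [← map_mul, e1, map_mul, DhO_scalarSim, one_mul]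
  have e3 := PhO_DhO hc σ h
  have e4 : DhO _ g = DhO (Cfsg.quadFormOdd m F) h * (DhO _ (gmapSim hc σ h))⁻¹ := by
    rw [← e2, mul_inv_cancel_right]
  have e5 : PhO hc σ * (DhO (Cfsg.quadFormOdd m F) h)⁻¹ =
      (DhO _ (gmapSim hc σ h))⁻¹ * PhO hc σ := by
    rw [eq_inv_mul_iff_mul_eq, ← mul_assoc, ← e3, mul_inv_cancel_right]
  rw [e4, mul_assoc, ← e5, ← mul_assoc]

omit [Fintype F] in
/-- `Inndiag(Ω_{2m+1}(F))` is the image of the conformal orthogonal group -/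
theorem inndiag_odd_eq (m : ℕ) :
    Cfsg.inndiagPOmegaOdd m F = (DhO (Cfsg.quadFormOdd m F)).range :=
  pgoAut_eq (Q := Cfsg.quadFormOdd m F)

omit [Fintype F] in
/-- the data of a field automorphism -/
theorem field_data_O {m : ℕ} (x : MulAut (Cfsg.POmega F (Cfsg.quadFormOdd m F)))
    (hx : Cfsg.IsFieldAutClassPOmega (Cfsg.quadFormOdd m F) x) :
    ∃ (α : MulAut (Cfsg.POmega F (Cfsg.quadFormOdd m F))) (σ : RingAut F), σ ≠ 1 ∧
      α * x * α⁻¹ = PhO (fieldCompat_odd m) σ := by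
  obtain ⟨α, φ, σ, hσ, hstd, hα⟩ := hx
  refine ⟨α, σ, hσ, ?_⟩
  rw [hα]
  exact (fieldO_iff (fieldCompat_odd m) σ φ).1 hstd

/-- the field case of the coset statement -/
theorem field_class_coset_O (h2 : (2 : F) ≠ 0) {m : ℕ} (hm : 3 ≤ m)
    [hD : ((DhO (Cfsg.quadFormOdd m F)).range).Normal]
    (x δ α : MulAut (Cfsg.POmega F (Cfsg.quadFormOdd m F))) (σ : RingAut F) (hσ1 : σ ≠ 1)
    (hα : α * x * α⁻¹ = PhO (fieldCompat_odd m) σ)
    {r : ℕ} (hr : r.Prime) (hxr : orderOf x = r)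
    (hδ : δ ∈ (DhO (Cfsg.quadFormOdd m F)).range)
    (hy : orderOf (δ * x) = r) :
    ∃ h' : MulAut (Cfsg.POmega F (Cfsg.quadFormOdd m F)),
      h' ∈ (DhO (Cfsg.quadFormOdd m F)).range ∧ δ * x = h' * x * h'⁻¹ := by
  have := Fact.mk hr
  have hc := fieldCompat_odd (F := F) m
  have hPr : (PhO hc σ) ^ r = 1 := by
    rw [← hα, ← MulAut.conj_apply, ← map_pow, ← hxr, pow_orderOf_eq_one, map_one]
  have hσr : σ ^ r = 1 := by
    apply eq_one_of_PhO_mem_range_odd h2 hm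
    rw [map_pow, hPr]
    exact one_mem _
  have hσord : orderOf σ = r := orderOf_eq_prime hσr hσ1
  obtain ⟨g, hg⟩ : ∃ g, DhO (Cfsg.quadFormOdd m F) g = α * δ * α⁻¹ := hD.conj_mem δ hδ α
  have hpow : (DhO (Cfsg.quadFormOdd m F) g * PhO hc σ) ^ r = 1 := by
    have : DhO (Cfsg.quadFormOdd m F) g * PhO hc σ = MulAut.conj α (δ * x) := by
      rw [MulAut.conj_apply, hg, ← hα]; group
    rw [this, ← map_pow, ← hy, pow_orderOf_eq_one, map_one]
  obtain ⟨h, hh⟩ := field_coset_conj_O h2 hm σ r hr hσord g hpow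
  exact conj_transport _ α x δ (PhO hc σ) (DhO _ g) (DhO _ h) hα hg.symm ⟨h, rfl⟩ hh

/-- **the coset statement for `Ω_{2m+1}`** (S2735), given the factorisation -/
theorem field_coset_iff_O (hodd : Odd (Fintype.card F)) {m : ℕ} (hm : 3 ≤ m)
    (hfac : FacO (Cfsg.quadFormOdd m F))
    (x δ : MulAut (Cfsg.POmega F (Cfsg.quadFormOdd m F)))
    (hx : Cfsg.IsFieldAutClassPOmega (Cfsg.quadFormOdd m F) x) {r : ℕ} (hr : r.Prime)
    (hxr : orderOf x = r) (hδ : δ ∈ Cfsg.inndiagPOmegaOdd m F) :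
    orderOf (δ * x) = r ↔ Cfsg.IsConjUnder (Cfsg.inndiagPOmegaOdd m F) x (δ * x) := by
  have h2 : (2 : F) ≠ 0 := Cfsg.Agent.Lib.Helper5.OrthSN.two_ne_zero_of_odd_card hodd
  have hD := DhO_range_normal (fieldCompat_odd (F := F) m) hfac
  rw [inndiag_odd_eq] at hδ ⊢
  constructor
  · intro hy
    obtain ⟨α, σ, hσ, hα⟩ := field_data_O x hx
    exact field_class_coset_O h2 hm x δ α σ hσ hα hr hxr hδ hy
  · rintro ⟨h, -, e⟩
    rw [e, ← MulAut.conj_apply, MulEquiv.orderOf_eq]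
    exact hxr

end Cfsg.Agent.Lib.H7AutPO
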