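import Cfsg.Agent.Lib.Helper7.AutPO.Bridge
import Mathlib

/-!
# The factorisation hypothesis for `PΩ(Q)` and its first consequences (helper7)
-/

set_option autoImplicit false
set_option linter.unusedSectionVars false

namespace Cfsg.Agent.Lib.H7AutPO

open Matrix Cfsg Cfsg.Agent.Lib.H7AutPSp

universe u

variable {ι : Type} [Fintype ι] [DecidableEq ι] {F : Type u} [Field F]

theorem fieldCompat_odd (m : ℕ) : FieldCompat (Cfsg.quadFormOdd m F) := by
  intro σ v
  unfold Cfsg.quadFormOdd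
  rw [map_add, map_pow, map_sum]
  congr 1
  apply Finset.sum_congr rfl
  intro i _
  rw [map_mul]

theorem fieldCompat_plus (m : ℕ) : FieldCompat (Cfsg.quadFormPlus m F) := by
  intro σ v
  unfold Cfsg.quadFormPlus
  rw [map_sum]
  apply Finset.sum_congr rfl
  intro i _
  rw [map_mul]

variable {Q : (ι → F) → F}

/-- every automorphism is induced by an isometry and a field automorphism -/
def FacO (Q : (ι → F) → F) : Prop :=
  ∀ β : MulAut (Cfsg.POmega F Q), ∃ (g : GL ι F) (σ : F ≃+* F),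
    g ∈ Cfsg.isometryGroup F Q ∧ Cfsg.IsInducedBySemilinearPOmega Q g σ β

theorem fac_decomp (hc : FieldCompat Q) (hfac : FacO Q) (β : MulAut (Cfsg.POmega F Q)) :
    ∃ (g : ↥(Cfsg.Geo.quadSimilarityGroup (F := F) Q)) (σ : RingAut F),
      g.1 ∈ Cfsg.isometryGroup F Q ∧ β = DhO Q g * PhO hc σ := by
  obtain ⟨g, σ, hg, h⟩ := hfac β
  exact ⟨⟨g, iso_le_sim Q hg⟩, σ, hg, (semilinearO_iff hc ⟨g, iso_le_sim Q hg⟩ σ β).1 h⟩

/-- a pair (isometry, field automorphism) is a semisimilarity -/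
theorem semisim_of_iso (hc : FieldCompat Q) (g : GL ι F) (hg : g ∈ Cfsg.isometryGroup F Q)
    (σ : F ≃+* F) : Cfsg.IsSemisimilarityPair Q g σ := by
  refine ⟨1, fun v => ?_⟩
  rw [(mem_iso_iff Q g).1 hg, Units.val_one, one_mul]
  exact hc σ v

/-- **`Aut(PΩ(Q))` is the image of the semisimilarity group**, given the factorisation -/
theorem gamma_eq_top (hc : FieldCompat Q) (hfac : FacO Q) : Cfsg.gammaPOmega F Q = ⊤ := by
  rw [eq_top_iff]
  intro β _
  obtain ⟨g, σ, hg, h⟩ := hfac β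
  exact Subgroup.subset_closure ⟨g, σ, semisim_of_iso hc g hg σ, h⟩

/-- the image of `DhO` is normal, given the factorisation -/
theorem DhO_range_normal (hc : FieldCompat Q) (hfac : FacO Q) : ((DhO Q).range).Normal := by
  constructor
  rintro _ ⟨h, rfl⟩ β
  obtain ⟨g, σ, -, rfl⟩ := fac_decomp hc hfac β
  have e : DhO Q g * PhO hc σ * DhO Q h * (DhO Q g * PhO hc σ)⁻¹ =
      DhO Q (g * gmapSim hc σ h * g⁻¹) := by
    rw [map_mul, map_mul, map_inv, _root_.mul_inv_rev, mul_assoc (DhO Q g), PhO_DhO]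
    group
  rw [e]
  exact ⟨_, rfl⟩

end Cfsg.Agent.Lib.H7AutPO
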