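import Cfsg.Agent.Lib.Helper7.AutPO.ClassifyOdd
import Cfsg.Agent.Lib.Helper7.AutPO.Fac
import Cfsg.Agent.Lib.Helper7.AutPSp.SpHilbert90
import Mathlib

/-!
# Hilbert's Theorem 90 for the conformal orthogonal group in odd dimension (helper7)

A similarity of the standard form of norm one with respect to a field automorphism `σ` of a
finite field of odd order is `P σ(P)⁻¹` with `P` a similarity.
-/

set_option autoImplicit false
set_option linter.unusedSectionVars false

namespace Cfsg.Agent.Lib.H7AutPO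

open Matrix Cfsg Cfsg.Agent.Lib.H7AutPSp Cfsg.Agent.Lib.H7AutPSL Cfsg.Agent.H9.Orth

universe u v

variable {F : Type u} [Field F]

/-- the Gram matrix of the standard form is compatible with base change -/
theorem gram_std_map {F' : Type v} [Field F'] (m : ℕ) (f : F →+* F') :
    (gram (Cfsg.quadFormOdd m F)).map f = gram (Cfsg.quadFormOdd m F') := by
  ext i j
  rw [Matrix.map_apply, gram_apply, gram_apply, polar_std_single, polar_std_single]
  rcases i with i | i | i <;> rcases j with j | j | j <;> simp [apply_ite f, map_ofNat]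

/-- **Hilbert 90 for the conformal orthogonal group `GO_{2m+1}`** -/
theorem o_hilbert90 [Finite F] (m : ℕ) (h2 : (2 : F) ≠ 0) (σ : RingAut F) (r : ℕ) (hr : 0 < r)
    (hσ : σ ^ r = 1) (hinj : ∀ i j, i < r → j < r → σ ^ i = σ ^ j → i = j)
    (g : Matrix (IO m) (IO m) F) (c : F) (hc : c ≠ 0)
    (hg : gᵀ * gram (Cfsg.quadFormOdd m F) * g = c • gram (Cfsg.quadFormOdd m F))
    (hN : pnormG σ g r = 1) :
    ∃ P : Matrix (IO m) (IO m) F, IsUnit P ∧ g * P.map σ = P ∧
      ∃ ν : F, ν ≠ 0 ∧ Pᵀ * gram (Cfsg.quadFormOdd m F) * P =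
        ν • gram (Cfsg.quadFormOdd m F) := by
  classical
  obtain ⟨G, hGdef⟩ : ∃ G, G = gram (Cfsg.quadFormOdd m F) := ⟨_, rfl⟩
  rw [← hGdef] at hg ⊢
  have hQ := isNondeg_quadFormOdd (F := F) (m := m) h2
  have hGσ : G.map σ = G := by rw [hGdef]; exact gram_map (fieldCompat_odd m) σ
  have hGt : Gᵀ = G := by rw [hGdef]; exact gram_transpose _
  have hGdet : G.det ≠ 0 := by rw [hGdef]; exact gram_det_ne_zero hQ
  obtain ⟨P₀, hP₀u, hP₀⟩ := hilbert90_matrixG σ r hr hσ hinj g hN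
  obtain ⟨K, hKdef⟩ : ∃ K, K = P₀ᵀ * G * P₀ := ⟨_, rfl⟩
  have hKσ : K = c • K.map σ := by
    have e1 : K.map σ = (P₀.map σ)ᵀ * G * P₀.map σ := by
      rw [hKdef, map_mulG, map_mulG, Matrix.transpose_map, hGσ]
    rw [e1]
    conv_lhs => rw [hKdef, ← hP₀]
    rw [Matrix.transpose_mul]
    calc (P₀.map σ)ᵀ * gᵀ * G * (g * P₀.map σ)
        = (P₀.map σ)ᵀ * (gᵀ * G * g) * P₀.map σ := by
          simp only [Matrix.mul_assoc]
      _ = c • ((P₀.map σ)ᵀ * G * P₀.map σ) := by
          rw [hg, Matrix.mul_smul, Matrix.smul_mul]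
  have hKσ' : K.map σ = c⁻¹ • K := by
    conv_rhs => rw [hKσ]
    rw [smul_smul, inv_mul_cancel₀ hc, one_smul]
  have hKdet : IsUnit K.det := by
    rw [hKdef, Matrix.det_mul, Matrix.det_mul, Matrix.det_transpose]
    have h1 := (Matrix.isUnit_iff_isUnit_det _).1 hP₀u
    exact (h1.mul (isUnit_iff_ne_zero.2 hGdet)).mul h1
  -- the multiplier has norm one
  have hnorm : fnorm σ c⁻¹ r = 1 := by
    have e := map_pow_of_semifixedG σ K c⁻¹ hKσ' r
    rw [hσ] at e
    have e1 : K.map (1 : RingAut F) = K := by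
      ext i j
      rfl
    rw [e1] at e
    have e2 : K * K⁻¹ = (fnorm σ c⁻¹ r • K) * K⁻¹ := by rw [← e]
    rw [Matrix.smul_mul, Matrix.mul_nonsing_inv K hKdet] at e2
    have e3 := congrFun (congrFun e2 (Sum.inl ())) (Sum.inl ())
    rw [Matrix.smul_apply, Matrix.one_apply_eq, smul_eq_mul, mul_one] at e3
    exact e3.symm
  obtain ⟨b, hb0, hb⟩ := hilbert90_field σ r hr hσ hinj c⁻¹ hnorm
  -- `K' = b K` is fixed by `σ`
  obtain ⟨K', hK'def⟩ : ∃ K', K' = b • K := ⟨_, rfl⟩
  have hK'σ : K'.map σ = K' := by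
    rw [hK'def, map_smulG, hKσ', smul_smul, mul_comm, hb]
  have hK'sym : K'ᵀ = K' := by
    rw [hK'def, hKdef, Matrix.transpose_smul, Matrix.transpose_mul, Matrix.transpose_mul,
      Matrix.transpose_transpose, hGt, Matrix.mul_assoc]
  have hK'det : K'.det ≠ 0 := by
    rw [hK'def, Matrix.det_smul]
    exact mul_ne_zero (pow_ne_zero _ hb0) hKdet.ne_zero
  -- descend to the fixed field
  have hfixK : ∀ i j, K' i j ∈ FixedPoints.subfield (Subgroup.zpowers σ) F := by
    intro i j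
    rw [mem_fixed_iff]
    have := congrFun (congrFun hK'σ i) j
    rw [Matrix.map_apply] at this
    exact this
  let K₀ : Matrix (IO m) (IO m) (FixedPoints.subfield (Subgroup.zpowers σ) F) :=
    fun i j => ⟨K' i j, hfixK i j⟩
  have hK₀map : K₀.map (FixedPoints.subfield (Subgroup.zpowers σ) F).subtype = K' := by
    ext i j
    rfl
  have hK₀sym : K₀ᵀ = K₀ := by
    ext i j
    have := congrFun (congrFun hK'sym i) j
    exact this
  have hK₀det : K₀.det ≠ 0 := by
    intro h0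
    apply hK'det
    rw [← hK₀map, ← RingHom.mapMatrix_apply, ← RingHom.map_det, h0, map_zero]
  have h2₀ : (2 : FixedPoints.subfield (Subgroup.zpowers σ) F) ≠ 0 := by
    intro h
    apply h2
    have := congrArg (FixedPoints.subfield (Subgroup.zpowers σ) F).subtype h
    rwa [map_ofNat, map_zero] at this
  have := Fintype.ofFinite (FixedPoints.subfield (Subgroup.zpowers σ) F)
  obtain ⟨Q₀, hQ₀u, a₀, ha₀, hQ₀⟩ := sym_congr_std m h2₀ K₀ hK₀sym hK₀det
  obtain ⟨Q, hQdef⟩ : ∃ Q, Q = Q₀.map (FixedPoints.subfield (Subgroup.zpowers σ) F).subtype :=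
    ⟨_, rfl⟩
  obtain ⟨a, hadef⟩ : ∃ a : F, a = (FixedPoints.subfield (Subgroup.zpowers σ) F).subtype a₀ :=
    ⟨_, rfl⟩
  have ha : a ≠ 0 := by
    rw [hadef]
    intro h
    exact ha₀ (Subtype.ext h)
  have hQ' : Qᵀ * K' * Q = a • G := by
    have := congrArg (fun M => M.map (FixedPoints.subfield (Subgroup.zpowers σ) F).subtype) hQ₀
    simp only [Matrix.map_mul, Matrix.transpose_map, hK₀map] at this
    rw [hQdef, this, hGdef, hadef]
    ext i j
    rw [Matrix.map_apply, Matrix.smul_apply, Matrix.smul_apply, smul_eq_mul, smul_eq_mul, map_mul,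
      ← gram_std_map m (FixedPoints.subfield (Subgroup.zpowers σ) F).subtype, Matrix.map_apply]
  have hQσ : Q.map σ = Q := by
    ext i j
    rw [hQdef, Matrix.map_apply, Matrix.map_apply]
    exact (mem_fixed_iff σ _).1 (Q₀ i j).2
  have hQu : IsUnit Q := by
    rw [hQdef, ← RingHom.mapMatrix_apply]
    exact hQ₀u.map _
  refine ⟨P₀ * Q, hP₀u.mul hQu, ?_, b⁻¹ * a, mul_ne_zero (inv_ne_zero hb0) ha, ?_⟩
  · rw [map_mulG, hQσ, ← Matrix.mul_assoc, hP₀]
  · have hKK' : K = b⁻¹ • K' := by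
      rw [hK'def, smul_smul, inv_mul_cancel₀ hb0, one_smul]
    calc (P₀ * Q)ᵀ * G * (P₀ * Q)
        = Qᵀ * (P₀ᵀ * G * P₀) * Q := by
          rw [Matrix.transpose_mul]; simp only [Matrix.mul_assoc]
      _ = b⁻¹ • (Qᵀ * K' * Q) := by
          rw [← hKdef, hKK', Matrix.mul_smul, Matrix.smul_mul]
      _ = _ := by rw [hQ', smul_smul]

end Cfsg.Agent.Lib.H7AutPO
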