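import Cfsg.Agent.Lib.Helper7.AutPO.SplitO2
import Cfsg.Agent.Lib.Helper7.AutPSL.FixedField
import Mathlib

/-!
# Field automorphisms of prime order of `Ω_{2m+1}(q)`: centraliser and class count (helper7)

Everything is conditional on the factorisation `FacO` of the automorphism group (S2694).
-/

set_option autoImplicit false
set_option linter.unusedSectionVars false

namespace Cfsg.Agent.Lib.H7AutPO

open Matrix Cfsg Cfsg.Agent.Lib.H7AutPSL Cfsg.Agent.Lib.H7AutPSp

universe u v

section abstract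

variable {A : Type*} [Group A]

/-- index two: the class does not split when the centraliser is not inside `K` -/
theorem splitClassCount_eq_one_of_index_two (D K : Subgroup A) (hKD : K ≤ D) [hK : K.Normal]
    (hidx : K.relIndex D = 2) (x : A)
    (h : ∃ c, c ∈ D ⊓ Subgroup.centralizer {x} ∧ c ∉ K) :
    Cfsg.splitClassCount D K x = 1 := by
  rw [splitClassCount_eq D K hKD x]
  obtain ⟨c, hc, hcK⟩ := h
  have h1 : K ≤ splitSub D K x := le_sup_left
  have h2 : splitSub D K x ≤ D := sup_le hKD inf_le_left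
  have h3 := Subgroup.relIndex_mul_relIndex K (splitSub D K x) D h1 h2
  rw [hidx] at h3
  have h4 : K.relIndex (splitSub D K x) ≠ 1 := by
    intro h
    rw [Subgroup.relIndex_eq_one] at h
    exact hcK (h (Subgroup.mem_sup_right hc))
  have h5 : K.relIndex (splitSub D K x) ∣ 2 := Dvd.intro _ h3
  rcases (Nat.dvd_prime Nat.prime_two).1 h5 with h6 | h6
  · exact (h4 h6).elim
  · rw [h6] at h3
    omega

/-- index two: the class splits into two when the centraliser is inside `K` -/
theorem splitClassCount_eq_two_of_index_two (D K : Subgroup A) (hKD : K ≤ D) [hK : K.Normal]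
    (hidx : K.relIndex D = 2) (x : A) (h : D ⊓ Subgroup.centralizer {x} ≤ K) :
    Cfsg.splitClassCount D K x = 2 := by
  rw [splitClassCount_eq D K hKD x]
  have : splitSub D K x = K := sup_eq_left.2 h
  rw [this, hidx]

end abstract

variable {F : Type u} [Field F] [Fintype F]

/-- **the centraliser and class count of a field automorphism of prime order of `Ω_{2m+1}(q)`** -/
theorem field_main_O {m : ℕ} (hfac : FacO (Cfsg.quadFormOdd m F)) {p f : ℕ} [Fact p.Prime]
    (hF : Fintype.card F = p ^ f) (hf : 1 ≤ f) (hodd : Odd (Fintype.card F)) (hm : 3 ≤ m)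
    (x : MulAut (Cfsg.POmega F (Cfsg.quadFormOdd m F)))
    (hx : Cfsg.IsFieldAutClassPOmega (Cfsg.quadFormOdd m F) x) {r : ℕ} (hr : r.Prime)
    (hxr : orderOf x = r) (F₀ : Type v) [Field F₀] [Fintype F₀]
    (hF₀ : Fintype.card F₀ = p ^ (f / r)) :
    r ∣ f ∧
      Nonempty (↥(Cfsg.inndiagPOmegaOdd m F ⊓ Subgroup.centralizer {x}) ≃*
        ↥(Cfsg.inndiagPOmegaOdd m F₀)) ∧
      (Odd r → Cfsg.splitClassCount (Cfsg.inndiagPOmegaOdd m F)
        (Cfsg.Inn (Cfsg.POmega F (Cfsg.quadFormOdd m F))) x = 1) ∧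
      (r = 2 → Cfsg.splitClassCount (Cfsg.inndiagPOmegaOdd m F)
        (Cfsg.Inn (Cfsg.POmega F (Cfsg.quadFormOdd m F))) x = 2) := by
  have h2 : (2 : F) ≠ 0 := Cfsg.Agent.Lib.Helper5.OrthSN.two_ne_zero_of_odd_card hodd
  have hc := fieldCompat_odd (F := F) m
  have hD := DhO_range_normal hc hfac
  have hpodd : Odd p := by
    rw [hF] at hodd
    exact (Nat.odd_pow_iff (by omega)).1 hodd
  obtain ⟨α, σ, hσ1, hα⟩ := field_data_O x hx
  have := Fact.mk hr
  have hPr : (PhO hc σ) ^ r = 1 := by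
    rw [← hα, ← MulAut.conj_apply, ← map_pow, ← hxr, pow_orderOf_eq_one, map_one]
  have hσ : σ ^ r = 1 := by
    apply eq_one_of_PhO_mem_range_odd h2 hm
    rw [map_pow, hPr]
    exact one_mem _
  have hσr : orderOf σ = r := orderOf_eq_prime hσ hσ1
  have hinj : ∀ i j, i < r → j < r → σ ^ i = σ ^ j → i = j := by
    intro i j hi hj hij
    rw [← hσr] at hi hj
    exact pow_injOn_Iio_orderOf (Set.mem_Iio.2 hi) (Set.mem_Iio.2 hj) hij
  obtain ⟨hrf, ι, hι⟩ := exists_fixed_embedding p f hF σ r hr.pos hσr F₀ hF₀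
  have hidx := relIndex_inn_DhO p f hF hpodd hm
  rw [inndiag_odd_eq]
  refine ⟨hrf, ?_, ?_, ?_⟩
  · obtain ⟨e⟩ := nonempty_cent_field_equiv_O h2 hm σ r hr.pos hσ hinj ι hι
    exact ⟨((centralizerConjEquiv _ α x).trans
      (MulEquiv.subgroupCongr (by rw [hα]))).trans e⟩
  · intro hro
    rw [← splitClassCount_conj _ (Cfsg.Inn (Cfsg.POmega F (Cfsg.quadFormOdd m F)))
      inn_le_DhO_range α x, hα]
    apply splitClassCount_eq_one_of_index_two _ _ inn_le_DhO_range hidx
    have h2₀ := two_ne_zero_base ι h2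
    obtain ⟨t₀, ht₀⟩ := FiniteField.exists_nonsquare (F := F₀)
      (Cfsg.Agent.Lib.Helper5.OrthSN.ringChar_ne_two_of_two_ne_zero h2₀)
    exact exists_cent_not_inn h2 hm σ (ι t₀) ((hι _).2 ⟨t₀, rfl⟩)
      (not_isSquare_of_odd h2 σ r hro hσ ι hι t₀ ht₀)
  · intro hr2
    rw [← splitClassCount_conj _ (Cfsg.Inn (Cfsg.POmega F (Cfsg.quadFormOdd m F)))
      inn_le_DhO_range α x, hα]
    apply splitClassCount_eq_two_of_index_two _ _ inn_le_DhO_range hidx
    have hcard : Fintype.card F = Fintype.card F₀ ^ 2 := by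
      rw [hF, hF₀, ← pow_mul, hr2, Nat.div_mul_cancel (hr2 ▸ hrf)]
    exact cent_le_inn_of_sq h2 hm σ r hr.pos hσ hinj ι hι
      (fun s => isSquare_of_card_sq h2 ι hcard s)

end Cfsg.Agent.Lib.H7AutPO
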