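import Cfsg.Agent.Lib.Helper7.AutPO.SplitO
import Cfsg.Agent.Lib.Helper7.AutPSL.SplitPSL
import Mathlib

/-!
# The class splitting number of a field automorphism of `Ω_{2m+1}(F)` (helper7)
-/

set_option autoImplicit false
set_option linter.unusedSectionVars false

namespace Cfsg.Agent.Lib.H7AutPO

open Matrix Cfsg Cfsg.Agent.Lib.H7AutPSp Cfsg.Agent.Lib.H7AutPSL Cfsg.Agent.H9.Orth
  Cfsg.Agent.Lib.Helper5.OrthAut Cfsg.Agent.Lib.Helper5.OrthCls Cfsg.Agent.Lib.Helper5.OrthSN
  Cfsg.Agent.Lib.Helper5.OrthPar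

universe u v

variable {F : Type u} [Field F] [Fintype F]

theorem card_ne_two_of_two_ne_zero (h2 : (2 : F) ≠ 0) : Fintype.card F ≠ 2 := by
  intro h
  apply h2
  have h3 : ((Fintype.card F : ℕ) : F) = 0 := Nat.cast_card_eq_zero F
  rw [h] at h3
  exact_mod_cast h3

theorem isSquare_list_prod (l : List F) (h : ∀ a ∈ l, IsSquare a) : IsSquare l.prod := by
  induction l with
  | nil => exact ⟨1, by simp⟩
  | cons a l ih =>
    rw [List.prod_cons]
    exact (h a List.mem_cons_self).mul (ih (fun b hb => h b (List.mem_cons_of_mem _ hb)))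

/-- **`r = 2`: the centraliser of the field automorphism in `Inndiag` consists of inner
automorphisms** -/
theorem cent_le_inn_of_sq {F₀ : Type v} [Field F₀] [Fintype F₀] (h2 : (2 : F) ≠ 0) {m : ℕ}
    (hm : 3 ≤ m) (σ : RingAut F) (r : ℕ) (hr : 0 < r) (hσ : σ ^ r = 1)
    (hinj : ∀ i j, i < r → j < r → σ ^ i = σ ^ j → i = j) (ι : F₀ →+* F)
    (hι : ∀ t : F, σ t = t ↔ ∃ s, ι s = t) (hsq : ∀ s : F₀, IsSquare (ι s)) :
    (DhO (Cfsg.quadFormOdd m F)).range ⊓
      Subgroup.centralizer {PhO (fieldCompat_odd (F := F) m) σ} ≤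
      Cfsg.Inn (Cfsg.POmega F (Cfsg.quadFormOdd m F)) := by
  intro c hc
  have hQ := isNondeg_quadFormOdd (F := F) m h2
  have h2₀ := two_ne_zero_base ι h2
  have hQ₀ := isNondeg_quadFormOdd (F := F₀) m h2₀
  have hgen₀ := Cfsg.Agent.H9.Orth.iso_le_RR hQ₀ (Or.inl (card_ne_two_of_two_ne_zero h2₀))
  obtain ⟨g₀, hg₀⟩ := goHom_surjective h2 hm σ r hr hσ hinj ι hι ⟨c, hc⟩
  have hcg : c = DhO _ (mapSim h2 m ι g₀) := by
    have := congrArg Subtype.val hg₀
    rw [goHom_val] at this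
    exact this.symm
  obtain ⟨l, hl0, g', hg', e⟩ := sim_eq_scalar_mul_iso_odd h2₀ m g₀
  -- adjust the parity
  obtain ⟨l', hl', g₁, hg₁, hpar, e'⟩ : ∃ (l' : F₀) (hl' : l' ≠ 0) (g₁ : GL (IO m) F₀),
      g₁ ∈ Cfsg.isometryGroup F₀ (Cfsg.quadFormOdd m F₀) ∧ par g₁ ∧
        (g₀ : GL (IO m) F₀) = scalarGL l' hl' * g₁ := by
    by_cases hp : par g'
    · exact ⟨l, hl0, g', hg', hp, e⟩
    · refine ⟨-l, neg_ne_zero.2 hl0, -1 * g', mul_mem (neg_one_mem_iso m) hg', ?_, ?_⟩
      · rw [par_mul_gen hQ₀ hgen₀ _ _ (neg_one_mem_iso m) hg']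
        constructor
        · intro h
          exact (not_par_neg_one h2₀ (by rw [card_IO]; exact ⟨m, rfl⟩) h).elim
        · intro h
          exact (hp h).elim
      · rw [e]
        apply Units.ext
        show (l • (1 : Matrix (IO m) (IO m) F₀)) * g'.val =
          ((-l) • (1 : Matrix (IO m) (IO m) F₀)) * ((-1 : GL (IO m) F₀) * g').val
        rw [Units.val_mul, Units.val_neg, Units.val_one, Matrix.neg_mul, Matrix.one_mul,
          Matrix.mul_neg, Matrix.smul_mul, Matrix.smul_mul, neg_smul, neg_neg]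
  obtain ⟨xs, hxs, hprod⟩ := exists_list hQ₀ hgen₀ g₁ hg₁
  have hev : Even xs.length := by
    rw [hprod] at hpar
    exact (par_prod hQ₀ xs hxs).1 hpar
  -- the image over `F`
  have hxs' : ∀ x ∈ xs.map (fun x => (ι ∘ x : IO m → F)), Cfsg.quadFormOdd m F x ≠ 0 := by
    intro x hx
    obtain ⟨x₀, hx₀, rfl⟩ := List.mem_map.1 hx
    rw [compat_odd]
    intro h
    exact hxs x₀ hx₀ (ι.injective (by rw [h, map_zero]))
  have hc2 : c = DhO (Cfsg.quadFormOdd m F)
      ⟨((xs.map (fun x => (ι ∘ x : IO m → F))).map (rf hQ)).prod,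
        iso_le_sim _ (prod_rf_mem hQ _)⟩ := by
    rw [hcg]
    have hl'' : ι l' ≠ 0 := fun h => hl' (ι.injective (by rw [h, map_zero]))
    have e3 : mapSim h2 m ι g₀ = scalarSim h2 m (ι l') hl'' *
        ⟨((xs.map (fun x => (ι ∘ x : IO m → F))).map (rf hQ)).prod,
          iso_le_sim _ (prod_rf_mem hQ _)⟩ := by
      apply sim_ext
      rw [mapSim_val, e', hprod]
      show _ = ((scalarSim h2 m (ι l') hl'').1 *
        ((xs.map (fun x => (ι ∘ x : IO m → F))).map (rf hQ)).prod).val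
      rw [Units.val_mul, Units.val_mul, scalarSim_val, ← map_prod_rf m ι hQ₀ hQ xs hxs,
        Matrix.map_mul]
      congr 1
      show (l' • (1 : Matrix (IO m) (IO m) F₀)).map ι = _
      ext i j
      rw [Matrix.map_apply, Matrix.smul_apply, Matrix.smul_apply, Matrix.one_apply,
        Matrix.one_apply, smul_eq_mul, smul_eq_mul, map_mul, apply_ite ι, map_one, map_zero]
    rw [e3, map_mul, DhO_scalarSim, one_mul]
  rw [hc2, prod_rf_mem_inn_iff h2 hm hQ _ hxs' (by rw [List.length_map]; exact hev)]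
  apply isSquare_list_prod
  intro a ha
  obtain ⟨x, hx, rfl⟩ := List.mem_map.1 ha
  obtain ⟨x₀, -, rfl⟩ := List.mem_map.1 hx
  rw [compat_odd]
  exact hsq _

/-- **`r` odd: some element of the centraliser of the field automorphism in `Inndiag` is not
inner** -/
theorem exists_cent_not_inn (h2 : (2 : F) ≠ 0) {m : ℕ} (hm : 3 ≤ m) (σ : RingAut F) (t : F)
    (ht : σ t = t) (hns : ¬ IsSquare t) :
    ∃ c, c ∈ (DhO (Cfsg.quadFormOdd m F)).range ⊓
        Subgroup.centralizer {PhO (fieldCompat_odd (F := F) m) σ} ∧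
      c ∉ Cfsg.Inn (Cfsg.POmega F (Cfsg.quadFormOdd m F)) := by
  have hQ := isNondeg_quadFormOdd (F := F) m h2
  have ht0 : t ≠ 0 := by
    rintro rfl
    exact hns ⟨0, by ring⟩
  obtain ⟨x, hx⟩ : ∃ x : IO m → F, x = Pi.single (Sum.inl ()) 1 := ⟨_, rfl⟩
  have h0 : 0 < m := by omega
  obtain ⟨y, hy⟩ : ∃ y : IO m → F,
      y = Pi.single (Sum.inr (Sum.inl (⟨0, h0⟩ : Fin m)) : IO m) (1 : F) +
        t • Pi.single (Sum.inr (Sum.inr (⟨0, h0⟩ : Fin m)) : IO m) (1 : F) := ⟨_, rfl⟩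
  have hQx : Cfsg.quadFormOdd m F x = 1 := by rw [hx]; exact quadFormOdd_single_inl m
  have hQy : Cfsg.quadFormOdd m F y = t := by
    rw [hy]
    unfold Cfsg.quadFormOdd
    simp [Pi.single_apply, Finset.sum_ite_eq']
  have hσx : ((σ : F →+* F) ∘ x : IO m → F) = x := by
    rw [hx]
    funext k
    simp only [Function.comp_apply, Pi.single_apply]
    split_ifs
    · exact map_one σ
    · exact map_zero σ
  have hσy : ((σ : F →+* F) ∘ y : IO m → F) = y := by
    rw [hy]
    funext k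
    simp only [Function.comp_apply, Pi.add_apply, Pi.smul_apply, Pi.single_apply, smul_eq_mul,
      RingHom.coe_coe, map_add, map_mul, ht]
    congr 1
    · split_ifs
      · exact map_one σ
      · exact map_zero σ
    · congr 1
      split_ifs
      · exact map_one σ
      · exact map_zero σ
  have hxs : ∀ z ∈ [x, y], Cfsg.quadFormOdd m F z ≠ 0 := by
    intro z hz
    simp only [List.mem_cons, List.not_mem_nil, or_false] at hz
    rcases hz with rfl | rfl
    · rw [hQx]; exact one_ne_zero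
    · rw [hQy]; exact ht0
  refine ⟨DhO _ ⟨([x, y].map (rf hQ)).prod, iso_le_sim _ (prod_rf_mem hQ _)⟩, ?_, ?_⟩
  · refine Subgroup.mem_inf.2 ⟨⟨_, rfl⟩, ?_⟩
    rw [mem_centralizer_singleton, comm_PhO_iff h2 hm]
    refine ⟨1, ?_⟩
    rw [Units.val_one, one_smul]
    have := map_prod_rf m (σ : F →+* F) hQ hQ [x, y] hxs
    have e : [x, y].map (fun z => ((σ : F →+* F) ∘ z : IO m → F)) = [x, y] := by
      rw [List.map_cons, List.map_cons, List.map_nil, hσx, hσy]
    rw [e] at this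
    exact congrArg Units.val this
  · rw [prod_rf_mem_inn_iff h2 hm hQ _ hxs ⟨1, rfl⟩]
    rw [List.map_cons, List.map_cons, List.map_nil, List.prod_cons, List.prod_cons, List.prod_nil,
      hQx, hQy, one_mul, mul_one]
    exact hns

end Cfsg.Agent.Lib.H7AutPO
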